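import Groth.Agent.Fdesc.GeomAlgClosed
import Groth.Agent.CurvSt.K896.CompMeet
import Groth.Agent.CurvesC.Dim1Top
import Mathlib.AlgebraicGeometry.AlgClosed.Basic
import Mathlib.AlgebraicGeometry.Morphisms.UniversallyOpen
import Mathlib.AlgebraicGeometry.Morphisms.FlatMono
import Mathlib.Topology.KrullDimension

/-!
# Extension of an algebraically closed base field: components, closed points, meeting points

`X' = X ×_Ω Ω'` for algebraically closed fields `Ω ⊂ Ω'`, `i : X' ⟶ X` the projection.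
-/

set_option autoImplicit false
universe u
open CategoryTheory CategoryTheory.Limits AlgebraicGeometry TopologicalSpace

namespace K996.ExtGeom

variable {Ω Ω' : Type u} [Field Ω] [IsAlgClosed Ω] [Field Ω'] [IsAlgClosed Ω']
  {e : Spec (CommRingCat.of Ω') ⟶ Spec (CommRingCat.of Ω)}
  {X X' : Scheme.{u}} {q : X ⟶ Spec (CommRingCat.of Ω)} {q' : X' ⟶ Spec (CommRingCat.of Ω')} {i : X' ⟶ X}

omit [IsAlgClosed Ω'] in
theorem geomIrr_e (e : Spec (CommRingCat.of Ω') ⟶ Spec (CommRingCat.of Ω)) : GeometricallyIrreducible e := by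
  obtain ⟨φ, rfl⟩ := Spec.map_surjective e
  let _ : Algebra Ω Ω' := φ.hom.toAlgebra
  exact Groth.Agent.Fdesc.GeomAlgClosed.geometricallyIrreducible_spec Ω Ω'

variable (hP : IsPullback i q' q e)

include hP

omit [IsAlgClosed Ω'] in
theorem geomIrr : GeometricallyIrreducible i := by
  have := geomIrr_e e
  exact MorphismProperty.of_isPullback hP.flip this

omit [IsAlgClosed Ω] [IsAlgClosed Ω'] in
theorem univOpen : UniversallyOpen i := by
  have : UniversallyOpen e := inferInstance
  exact MorphismProperty.of_isPullback hP.flip this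

omit [IsAlgClosed Ω] [IsAlgClosed Ω'] in
theorem isOpenMap : IsOpenMap i := by
  have := univOpen hP
  exact i.isOpenMap

omit [IsAlgClosed Ω] [IsAlgClosed Ω'] in
theorem flat : Flat i := by
  have : Flat e := inferInstance
  exact MorphismProperty.of_isPullback hP.flip this

omit [IsAlgClosed Ω] [IsAlgClosed Ω'] in
theorem surj : Surjective i := by
  have : Surjective e := inferInstance
  exact MorphismProperty.of_isPullback hP.flip this

omit [IsAlgClosed Ω] [IsAlgClosed Ω'] in
theorem preimage_injective {A B : Set X} (h : i ⁻¹' A = i ⁻¹' B) : A = B := by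
  have := surj hP
  exact Set.preimage_injective.2 i.surjective h

omit [IsAlgClosed Ω'] in
theorem preimage_mem {Z : Set X} (hZ : Z ∈ irreducibleComponents (X : Type u)) :
    i ⁻¹' Z ∈ irreducibleComponents (X' : Type u) := by
  have := geomIrr hP
  exact ((i.irreducibleComponentsEquiv (isOpenMap hP)).symm ⟨Z, hZ⟩).2

omit [IsAlgClosed Ω'] in
theorem exists_eq_preimage {Z' : Set X'} (hZ : Z' ∈ irreducibleComponents (X' : Type u)) :
    ∃ Z ∈ irreducibleComponents (X : Type u), Z' = i ⁻¹' Z := by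
  have := geomIrr hP
  refine ⟨_, ((i.irreducibleComponentsEquiv (isOpenMap hP)) ⟨Z', hZ⟩).2, ?_⟩
  have h := (i.irreducibleComponentsEquiv (isOpenMap hP)).symm_apply_apply ⟨Z', hZ⟩
  exact (congrArg Subtype.val h).symm

omit [IsAlgClosed Ω'] in
theorem meetPts_preimage (E : Set X) :
    CurvSt.meetPts X' (i ⁻¹' E) = i ⁻¹' (CurvSt.meetPts X E) := by
  ext x
  constructor
  · rintro ⟨h1, E'', hE'', hne, hx⟩
    obtain ⟨E', hE', rfl⟩ := exists_eq_preimage hP hE''
    exact ⟨h1, E', hE', fun h => hne (by rw [h]), hx⟩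
  · rintro ⟨h1, E', hE', hne, hx⟩
    exact ⟨h1, i ⁻¹' E', preimage_mem hP hE', fun h => hne (preimage_injective hP h), hx⟩

omit [IsAlgClosed Ω] [IsAlgClosed Ω'] in
theorem preimage_closure (A : Set X) : i ⁻¹' closure A = closure (i ⁻¹' A) :=
  (isOpenMap hP).preimage_closure_eq_closure_preimage i.continuous A

omit [IsAlgClosed Ω'] in
/-- The fibre over a closed point is one closed point. -/
theorem exists_fibre [LocallyOfFiniteType q] {x : X} (hx : IsClosed ({x} : Set X)) :
    ∃ x' : X', i ⁻¹' {x} = {x'} := by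
  let σ := pointOfClosedPoint q x hx
  have hσ : σ ≫ q = 𝟙 _ := pointOfClosedPoint_comp q x hx
  let σ' : Spec (CommRingCat.of Ω') ⟶ X' := hP.lift (e ≫ σ) (𝟙 _) (by rw [Category.assoc, hσ]; simp)
  have h1 : σ' ≫ i = e ≫ σ := hP.lift_fst _ _ _
  have h2 : σ' ≫ q' = 𝟙 _ := hP.lift_snd _ _ _
  have hsq : IsPullback e σ' σ i := by
    refine IsPullback.of_bot (v₂₁ := q') (v₂₂ := q) (h₃₁ := e) ?_ h1.symm hP
    rw [h2, hσ]
    exact IsPullback.of_vert_isIso ⟨by simp⟩
  have hr : Set.range σ = {x} := by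
    ext y
    constructor
    · rintro ⟨z, rfl⟩
      exact pointOfClosedPoint_apply q x hx z
    · rintro rfl
      exact ⟨IsLocalRing.closedPoint Ω, pointOfClosedPoint_apply q y hx _⟩
  refine ⟨σ' (IsLocalRing.closedPoint Ω'), ?_⟩
  ext y
  constructor
  · intro hy
    obtain ⟨z, -, hz⟩ := Scheme.exists_preimage_of_isPullback hsq (IsLocalRing.closedPoint Ω) y
      ((pointOfClosedPoint_apply q x hx _).trans (show i y = x from hy).symm)
    rw [← hz]
    exact congrArg σ' (Subsingleton.elim _ _)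
  · rintro rfl
    change i (σ' _) = x
    rw [← Scheme.Hom.comp_apply, h1, Scheme.Hom.comp_apply]
    exact pointOfClosedPoint_apply q x hx _

omit [IsAlgClosed Ω'] in
/-- The preimage of a set of closed points has the same cardinality. -/
theorem encard_preimage [LocallyOfFiniteType q] {A : Set X} (hA : ∀ x ∈ A, IsClosed ({x} : Set X)) :
    (i ⁻¹' A).encard = A.encard := by
  have := surj hP
  have h1 : Set.InjOn i (i ⁻¹' A) := by
    intro x hx y hy hxy
    obtain ⟨z, hz⟩ := exists_fibre hP (hA (i x) hx)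
    have h2 : x ∈ i ⁻¹' {i x} := rfl
    have h3 : y ∈ i ⁻¹' {i x} := hxy.symm
    rw [hz] at h2 h3
    exact h2.trans h3.symm
  rw [← h1.encard_image, Set.image_preimage_eq A i.surjective]

omit [IsAlgClosed Ω'] in
theorem ncard_preimage [LocallyOfFiniteType q] {A : Set X} (hA : ∀ x ∈ A, IsClosed ({x} : Set X)) :
    (i ⁻¹' A).ncard = A.ncard := by
  unfold Set.ncard
  rw [encard_preimage hP hA]

end K996.ExtGeom

namespace K996.ExtGeom

section Dim1

variable {X : Scheme.{u}} [NoetherianSpace X]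

/-- Two distinct components of a Noetherian scheme of dimension at most one meet in finitely many closed points. -/
theorem finite_inter (hd : topologicalKrullDim X ≤ 1) {E F : Set X} (hE : E ∈ irreducibleComponents (X : Type u))
    (hF : F ∈ irreducibleComponents (X : Type u)) (hne : E ≠ F) :
    (E ∩ F).Finite ∧ ∀ x ∈ E ∩ F, IsClosed ({x} : Set X) := by
  have hEc := isClosed_of_mem_irreducibleComponents E hE
  have hFc := isClosed_of_mem_irreducibleComponents F hF
  have hemb : Topology.IsClosedEmbedding (Subtype.val : E → X) := hEc.isClosedEmbedding_subtypeVal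
  have i1 : IrreducibleSpace E := isIrreducible_iff_irreducibleSpace.mp hE.1
  have i2 : QuasiSober E := hemb.quasiSober
  have i3 : NoetherianSpace E := hemb.isInducing.noetherianSpace
  have hdE : topologicalKrullDim E ≤ 1 := hemb.isInducing.topologicalKrullDim_le.trans hd
  have hZ : IsClosed ((Subtype.val : E → X) ⁻¹' F) := hFc.preimage continuous_subtype_val
  have hZne : ((Subtype.val : E → X) ⁻¹' F) ≠ Set.univ := by
    intro h
    have h1 : E ⊆ F := fun x hx => by
      have : (⟨x, hx⟩ : E) ∈ (Subtype.val : E → X) ⁻¹' F := by rw [h]; trivial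
      exact this
    exact hne (h1.antisymm (hE.2 hF.1 h1))
  have h1 := Groth.Agent.CurvesC.Dim1Top.finite_of_isClosed hdE hZ hZne
  refine ⟨?_, ?_⟩
  · have h2 := h1.image (Subtype.val : E → X)
    rwa [Subtype.image_preimage_coe] at h2
  · rintro x ⟨hx1, hx2⟩
    have h2 := Groth.Agent.CurvesC.Dim1Top.isClosed_singleton_of_mem hdE hZ hZne (z := ⟨x, hx1⟩) hx2
    have h3 := hemb.isClosedMap _ h2
    rwa [Set.image_singleton] at h3

/-- The points of a subcurve on the closure of its complement are finitely many closed points. -/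
theorem finite_inter_closure (hd : topologicalKrullDim X ≤ 1) {𝒮 : Set (Set X)}
    (h𝒮 : 𝒮 ⊆ irreducibleComponents (X : Type u)) :
    (⋃₀ 𝒮 ∩ closure (⋃₀ 𝒮)ᶜ).Finite ∧ ∀ x ∈ ⋃₀ 𝒮 ∩ closure (⋃₀ 𝒮)ᶜ, IsClosed ({x} : Set X) := by
  have hfin := NoetherianSpace.finite_irreducibleComponents (α := X)
  have hsub : closure (⋃₀ 𝒮)ᶜ ⊆ ⋃₀ (irreducibleComponents (X : Type u) \ 𝒮) := by
    have hcl : IsClosed (⋃₀ (irreducibleComponents (X : Type u) \ 𝒮)) := by
      rw [Set.sUnion_eq_biUnion]
      exact hfin.sdiff.isClosed_biUnion fun W hW ↦ isClosed_of_mem_irreducibleComponents W hW.1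
    rw [hcl.closure_subset_iff]
    intro y hy
    have h3 : y ∈ ⋃₀ irreducibleComponents (X : Type u) := by
      rw [sUnion_irreducibleComponents]; trivial
    obtain ⟨W, hW1, hyW⟩ := h3
    exact ⟨W, ⟨hW1, fun h => hy ⟨W, h, hyW⟩⟩, hyW⟩
  have hsub2 : ⋃₀ 𝒮 ∩ closure (⋃₀ 𝒮)ᶜ ⊆ ⋃ p ∈ {p : Set X × Set X | (p.1 ∈ irreducibleComponents (X : Type u) ∧
      p.2 ∈ irreducibleComponents (X : Type u)) ∧ p.1 ≠ p.2}, p.1 ∩ p.2 := by
    rintro x ⟨⟨E, hE, hxE⟩, hx2⟩
    obtain ⟨F, ⟨hF1, hF2⟩, hxF⟩ := hsub hx2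
    refine Set.mem_biUnion (x := (E, F)) ⟨⟨h𝒮 hE, hF1⟩, ?_⟩ ⟨hxE, hxF⟩
    intro h
    change E = F at h
    subst h
    exact hF2 hE
  constructor
  · refine Set.Finite.subset (Set.Finite.biUnion ?_ fun p hp => ?_) hsub2
    · refine Set.Finite.subset (hfin.prod hfin) ?_
      rintro ⟨a, b⟩ ⟨h, -⟩
      exact h
    · exact (finite_inter hd hp.1.1 hp.1.2 hp.2).1
  · intro x hx
    obtain ⟨p, hp, hxp⟩ := Set.mem_iUnion₂.1 (hsub2 hx)
    exact (finite_inter hd hp.1.1 hp.1.2 hp.2).2 x hxp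

theorem isClosed_of_mem_meetPts (hd : topologicalKrullDim X ≤ 1) {E : Set X}
    (hE : E ∈ irreducibleComponents (X : Type u)) {x : X} (hx : x ∈ CurvSt.meetPts X E) : IsClosed ({x} : Set X) := by
  obtain ⟨h1, F, hF, hne, h2⟩ := hx
  exact (finite_inter hd hE hF hne.symm).2 x ⟨h1, h2⟩

end Dim1

end K996.ExtGeom
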