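import Groth.Agent.VecBal.K996.CurvIsoLoc
import Groth.Agent.VecBal.K67.CPt

/-!
# The scheme of isomorphisms of two polarised families of curves: universal `CPt` (helper996)
-/

set_option autoImplicit false

universe u

open CategoryTheory CategoryTheory.Limits AlgebraicGeometry

namespace K996.CurvIso

/-- The translation to `K67.CPt`. -/
theorem IsIsom.isUniv {S X Y W V : Scheme.{u}} {gX : X ⟶ S} {gY : Y ⟶ S} {w : W ⟶ S} {p : V ⟶ W} {a : V ⟶ X}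
    {b : V ⟶ Y} (h : IsIsom gX gY w p a b) :
    K67.CPt.IsUniv (fun _ => True) (⟨V, p, a, b, h.sX, h.sY⟩ : K67.CPt gX gY w) := by
  intro T _ u s
  obtain ⟨g, ⟨h1, v, h2, h3, h4⟩, hg⟩ := h.up T u s.q s.p₁ s.p₂ s.sq₁ s.sq₂
  refine ⟨g, ⟨h1, v, h3, h4, h2⟩, ?_⟩
  rintro g' ⟨k1, v', k2, k3, k4⟩
  exact hg g' ⟨k1, v', k4, k2, k3⟩

/-- **Isomorphisms of polarised families of curves near a point of any scheme**: the universal `CPt`. -/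
theorem exists_cpt_nbhd {S X Y : Scheme.{u}} (f : X ⟶ S) (g : Y ⟶ S) [IsProper f] [Flat f]
    [LocallyOfFinitePresentation f] [IsProper g] [Flat g] [LocallyOfFinitePresentation g]
    (hdim : ∀ x, FlatMor.fibreDimAt f x ≤ 1) (z : S) {U₀ X₀ Y₀ : Scheme.{u}} {j₀ : U₀ ⟶ S} {x₀ : X₀ ⟶ X}
    {y₀ : Y₀ ⟶ Y} {f₀ : X₀ ⟶ U₀} {g₀ : Y₀ ⟶ U₀} [IsOpenImmersion j₀] [IsAffine U₀] (hz : z ∈ Set.range j₀)
    (sx : IsPullback x₀ f₀ f j₀) (sy : IsPullback y₀ g₀ g j₀)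
    {L : X₀.Modules} (hL : CohB1.IsAmple L) {M : Y₀.Modules} (hM : CohB1.IsAmple M) :
    ∃ (U : Scheme.{u}) (j : U ⟶ S), IsOpenImmersion j ∧ IsAffine U ∧ z ∈ Set.range j ∧
      ∀ (X' Y' : Scheme.{u}) (f' : X' ⟶ U) (g' : Y' ⟶ U) (x' : X' ⟶ X) (y' : Y' ⟶ Y), IsPullback x' f' f j →
        IsPullback y' g' g j → ∃ (W : Scheme.{u}) (w : W ⟶ U) (s₀ : K67.CPt f' g' w),
          LocallyOfFinitePresentation w ∧ QuasiCompact w ∧ IsSeparated w ∧ s₀.IsUniv (fun _ => True) := by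
  obtain ⟨U, j, hj, hU, hz, H⟩ := exists_isIsom_nbhd f g hdim z hz sx sy hL hM
  refine ⟨U, j, hj, hU, hz, fun X' Y' f' g' x' y' q₁ q₂ => ?_⟩
  obtain ⟨W, V, w, p, a, b, h1, h2, h3, h4⟩ := H X' Y' f' g' x' y' q₁ q₂
  exact ⟨W, w, _, h1, h2, h3, h4.isUniv⟩

end K996.CurvIso
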