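import Groth.Agent.VecBal.K996.FamDesc
import Groth.Agent.VecBal.K812.Iface
import Groth.Agent.AbSch.K451.DetPic
import Groth.Agent.Desc.FinLocFreeSections

/-!
# The descent nodes J3a, J3b, J3c, J3 of `Groth.Agent.VecBal.K812.Iface`
-/

set_option autoImplicit false
universe v u
open CategoryTheory CategoryTheory.Limits AlgebraicGeometry TopologicalSpace

namespace K996.IfaceDesc

open Groth.Agent Groth.Agent.VecBal.K812.Iface K996.ExtGeom K996.Spread K996.FamDesc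

theorem isQCoh_of_loc {X : Scheme.{u}} {E : X.Modules} {r : ℕ} (h : FlatMod.IsFinLocFreeOfRank r E) :
    Coh.IsQCoh E :=
  PerfA.QCohEpi.isQCoh_of_isFinLocFree fun x => by
    obtain ⟨U, hx, h⟩ := h x
    exact ⟨U, r, hx, h⟩

theorem isFP_of_loc {X : Scheme.{u}} {E : X.Modules} {r : ℕ} (h : FlatMod.IsFinLocFreeOfRank r E) :
    CohB1.IsFP E :=
  Desc.FinLocFreeSections.isFP_of_isFinLocFree fun x => by
    obtain ⟨U, hx, h⟩ := h x
    exact ⟨U, r, hx, h⟩

theorem ssDesc : SsDescStmt.{u} := by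
  intro Ω Ω' _ _ _ _ X X' q q' i h hq g hs
  obtain ⟨e, he⟩ := h.out
  obtain ⟨φ, rfl⟩ := Spec.map_surjective e
  exact isSemistablePtd_of_ext (φ := φ.hom) he hs

theorem balDesc : BalDescStmt.{u} := by
  intro Ω Ω' _ _ _ _ X X' q q' i h g r d hs E hE
  obtain ⟨e, he⟩ := h.out
  obtain ⟨φ, rfl⟩ := Spec.map_surjective e
  have hq : IsProper q := hs.1
  refine ⟨fun h => ?_, fun h => balanced_of_ext (φ := φ.hom) he hs.2.2.1.le (isQCoh_of_loc hE) r d g h⟩
  rw [← deg_of_ext (φ := φ.hom) he (isQCoh_of_loc hE) r]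
  exact h

theorem admDesc : AdmDescStmt.{u} := by
  intro Ω Ω' _ _ _ _ X X' q q' i h g r hs E hE ha
  obtain ⟨e, he⟩ := h.out
  obtain ⟨φ, rfl⟩ := Spec.map_surjective e
  have hq : IsProper q := hs.1
  exact isAdmissible_of_ext (φ := φ.hom) he hs.2.2.1.le (isQCoh_of_loc hE) (isFP_of_loc hE) r ha

theorem famCond_iff {g r : ℕ} {d : ℤ} {C T : Scheme.{u}} {f : C ⟶ T} {E : C.Modules} : FamCond g r d f E ↔
    Flat f ∧ IsProper f ∧ FlatMod.IsFlatOver f E ∧ CohB1.IsFP E ∧ VecSt.Fibrewise f E (Good g r d) := by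
  constructor
  · rintro ⟨⟨h1, h2, h3⟩, ⟨h4, h5, h6⟩, h7, h8⟩
    exact ⟨h1, h2, h4, h5, fun Ω _ _ t X i q hi => ⟨h3 Ω t X i q hi, h6 Ω t X i q hi, h7 Ω t X i q hi,
      h8 Ω t X i q hi⟩⟩
  · rintro ⟨h1, h2, h3, h4, h5⟩
    exact ⟨⟨h1, h2, fun Ω _ _ t X i q hi => (h5 Ω t X i q hi).1⟩,
      ⟨h3, h4, fun Ω _ _ t X i q hi => (h5 Ω t X i q hi).2.1⟩,
      fun Ω _ _ t X i q hi => (h5 Ω t X i q hi).2.2.1, fun Ω _ _ t X i q hi => (h5 Ω t X i q hi).2.2.2⟩

theorem condDesc : CondDescStmt.{u} := by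
  intro g r d C T f E hq ι X u hc h
  choose C' top f' hP h' using h
  have h' := fun j => famCond_iff.1 (h' j)
  have hfl : ∀ j, Flat (u j) := fun j => K185.FamRep.flat_of_mem _ hc j
  have hs : ∀ t : T, ∃ j, t ∈ Set.range (u j) := K185.FamRep.surj_of_mem _ hc
  have hp : ∀ (P : MorphismProperty Scheme.{u}) [IsZariskiLocalAtTarget P]
      [P.DescendsAlong (@Surjective ⊓ @Flat ⊓ @QuasiCompact)], (∀ j, P (f' j)) → P f := by
    intro P _ _ hA
    refine K390.FpqcFamily.prop_of_ofArrows P f _ hc fun j => ?_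
    rw [← (hP j).isoPullback_inv_snd]
    exact (P.cancel_left_of_respectsIso _ _).2 (hA j)
  have hdf := flat_descends.{u}
  have hdp := S0086.result.{u}
  have hflat : Flat f := hp @Flat fun j => (h' j).1
  have hproper : IsProper f := hp @IsProper fun j => (h' j).2.1
  have hFP : CohB1.IsFP E := by
    refine K996.FpqcFP.isFP_of_family (fun j => top j) ?_ E hq fun j => (h' j).2.2.2.1
    exact Scheme.fpqcPrecoverage.{u}.mem_coverings_of_isPullback _ hc f _ (fun j => f' j) fun j => hP j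
  refine famCond_iff.2 ⟨hflat, hproper, ?_, hFP, ?_⟩
  · intro x
    obtain ⟨j, y, hy⟩ := hs (f x)
    obtain ⟨z, hz, -⟩ := Scheme.exists_preimage_of_isPullback (hP j) x y hy.symm
    rw [← hz]
    exact Fdesc.FlatBC.isFlatOverAt_of_pullback (hP j) E z ((h' j).2.2.1 z)
  · exact fibrewise_of_cover hq hFP C' X f' top u hP hs fun j => (h' j).2.2.2.2

/-- The condition is stable under base change. -/
theorem famCond_pullback {g r : ℕ} {d : ℤ} {C T C' T' : Scheme.{u}} {f : C ⟶ T} {f' : C' ⟶ T'} {top : C' ⟶ C}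
    {b : T' ⟶ T} (hP : IsPullback top f' f b) {E : C.Modules} (h : FamCond g r d f E) :
    FamCond g r d f' ((Scheme.Modules.pullback top).obj E) := by
  rw [famCond_iff] at h ⊢
  obtain ⟨h1, h2, h3, h4, h5⟩ := h
  exact ⟨MorphismProperty.of_isPullback hP h1, MorphismProperty.of_isPullback hP h2,
    Htor.H247.KunnethFlat.isFlatOver_pullback hP _ h3, isFP_pull _ h4, fibrewise_of_isPullback hP h5⟩

end K996.IfaceDesc
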