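import Groth.Agent.VecBal.K996.GlueB
import Groth.Agent.VecBal.K996.CurvIsoPt
import Groth.Agent.VecBal.K996.IfaceDesc
import Groth.Agent.ModSt.K599.IsoGlue
import Groth.Agent.AlgSp.K639.Dim

/-!
# J6: the diagonal of the stack of properly balanced bundles (helper996)

* `K996.Diag.exists_isoPt` : for two families with `FamCond` over any scheme `B` the functor of isomorphisms is
  represented by a scheme quasi-compact and separated over `B`.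
* `K996.Diag.diagStmt : PolStmt → LfpStmt → DiagStmt`.
-/

set_option autoImplicit false
set_option backward.isDefEq.respectTransparency false
set_option backward.isDefEq.respectTransparency.types false

universe u

open CategoryTheory CategoryTheory.Limits AlgebraicGeometry Opposite

noncomputable section

namespace K996.Diag

open Groth.Agent K599.LMod K599.Rep K599.Prod K996.Trans K996.Asm K996.IfaceDesc
open Groth.Agent.VecBal.K812.Iface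

section dim

/-- The fibres of a family of semistable curves have dimension at most one. -/
theorem fibreDimAt_le {C T : Scheme.{u}} {f : C ⟶ T} {g : ℕ} (h : VecSt.IsSemistableFam f g) (x : C) :
    FlatMor.fibreDimAt f x ≤ 1 := by
  have : IsProper f := h.2.1
  let s : T := f x
  let Ω := AlgebraicClosure (T.residueField s)
  let t : Spec (CommRingCat.of Ω) ⟶ T :=
    Spec.map (CommRingCat.ofHom (algebraMap (T.residueField s) Ω)) ≫ T.fromSpecResidueField s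
  have ht : t (IsLocalRing.closedPoint Ω) = f x := by
    change (Spec.map _ ≫ T.fromSpecResidueField s) _ = s
    rw [Scheme.Hom.comp_apply, Scheme.fromSpecResidueField_apply]
  have sq := IsPullback.of_hasPullback f t
  have h1 := (h.2.2 Ω t _ _ _ sq).2.2.1
  rw [K639.Dim.dim_eq_iSup_of_isPullback sq] at h1
  rw [← h1]
  exact le_iSup₂_of_le x ht.symm le_rfl

end dim

section push

variable {U B X₁ X₂ X₁' X₂' W : Scheme.{u}} {j : U ⟶ B} {f₁ : X₁ ⟶ B} {f₂ : X₂ ⟶ B} {f₁' : X₁' ⟶ U} {f₂' : X₂' ⟶ U}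
  {x₁ : X₁' ⟶ X₁} {x₂ : X₂' ⟶ X₂} {w : W ⟶ U}

/-- A universal isomorphism over an open subscheme, seen over the whole base. -/
theorem exists_push (sq₁ : IsPullback x₁ f₁' f₁ j) (sq₂ : IsPullback x₂ f₂' f₂ j) {E₁ : X₁.Modules} {E₂ : X₂.Modules}
    (s : IsoPt f₁' f₂' ((Scheme.Modules.pullback x₁).obj E₁) ((Scheme.Modules.pullback x₂).obj E₂) w) (hs : s.IsUniv)
    {v₀ : W ⟶ B} (hv₀ : w ≫ j = v₀) :
    ∃ s₁ : IsoPt f₁ f₂ E₁ E₂ v₀, ∀ (T : Scheme.{u}) (u : T ⟶ U) (v : T ⟶ B) (_ : u ≫ j = v)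
      (s' : IsoPt f₁ f₂ E₁ E₂ v), ∃! t : T ⟶ W, t ≫ w = u ∧ s₁.Rel s' t := by
  subst hv₀
  have c₁ := cart_pbHom (⟨X₁, E₁⟩ : LObj.{u}) x₁
  have c₂ := cart_pbHom (⟨X₂, E₂⟩ : LObj.{u}) x₂
  let s₁ : IsoPt f₁ f₂ E₁ E₂ (w ≫ j) :=
    { y := s.y
      q := s.q
      α₁ := s.α₁ ≫ pbHom (⟨X₁, E₁⟩ : LObj.{u}) x₁
      α₂ := s.α₂ ≫ pbHom (⟨X₂, E₂⟩ : LObj.{u}) x₂
      cart₁ := s.cart₁.comp c₁
      cart₂ := s.cart₂.comp c₂
      sq₁ := s.sq₁.paste_horiz sq₁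
      sq₂ := s.sq₂.paste_horiz sq₂ }
  refine ⟨s₁, ?_⟩
  rintro T u _ rfl s'
  -- the restriction of `s'`
  have e₁ : s'.α₁.top ≫ f₁ = (s'.q ≫ u) ≫ j := by rw [s'.sq₁.w, Category.assoc]
  have e₂ : s'.α₂.top ≫ f₂ = (s'.q ≫ u) ≫ j := by rw [s'.sq₂.w, Category.assoc]
  have l1 : sq₁.lift s'.α₁.top (s'.q ≫ u) e₁ ≫ x₁ = s'.α₁.top := sq₁.lift_fst _ _ _
  have l1' : sq₁.lift s'.α₁.top (s'.q ≫ u) e₁ ≫ f₁' = s'.q ≫ u := sq₁.lift_snd _ _ _
  have l2 : sq₂.lift s'.α₂.top (s'.q ≫ u) e₂ ≫ x₂ = s'.α₂.top := sq₂.lift_fst _ _ _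
  have l2' : sq₂.lift s'.α₂.top (s'.q ≫ u) e₂ ≫ f₂' = s'.q ≫ u := sq₂.lift_snd _ _ _
  let γ₁ := c₁.lift s'.α₁ _ l1
  let γ₂ := c₂.lift s'.α₂ _ l2
  have g1 : γ₁.top = sq₁.lift s'.α₁.top (s'.q ≫ u) e₁ := c₁.lift_top _ _ _
  have g2 : γ₂.top = sq₂.lift s'.α₂.top (s'.q ≫ u) e₂ := c₂.lift_top _ _ _
  have k1 : γ₁ ≫ pbHom (⟨X₁, E₁⟩ : LObj.{u}) x₁ = s'.α₁ := c₁.lift_comp _ _ _
  have k2 : γ₂ ≫ pbHom (⟨X₂, E₂⟩ : LObj.{u}) x₂ = s'.α₂ := c₂.lift_comp _ _ _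
  let s'' : IsoPt f₁' f₂' ((Scheme.Modules.pullback x₁).obj E₁) ((Scheme.Modules.pullback x₂).obj E₂) u :=
    { y := s'.y
      q := s'.q
      α₁ := γ₁
      α₂ := γ₂
      cart₁ := Cart.of_comp c₁ (by rw [k1]; exact s'.cart₁)
      cart₂ := Cart.of_comp c₂ (by rw [k2]; exact s'.cart₂)
      sq₁ := by
        rw [g1]
        refine IsPullback.of_right (h₁₂ := x₁) (v₁₃ := f₁) (h₂₂ := j) ?_ l1' sq₁
        rw [l1]
        exact s'.sq₁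
      sq₂ := by
        rw [g2]
        refine IsPullback.of_right (h₁₂ := x₂) (v₁₃ := f₂) (h₂₂ := j) ?_ l2' sq₂
        rw [l2]
        exact s'.sq₂ }
  have key (t : T ⟶ W) (ht : t ≫ w = u) : s.Rel s'' t ↔ s₁.Rel s' t := by
    constructor
    · rintro ⟨β, h1, h2, h3⟩
      refine ⟨β, ?_, ?_, h3⟩
      · change β ≫ s.α₁ ≫ _ = _
        rw [← Category.assoc]
        exact (congrArg (· ≫ pbHom (⟨X₁, E₁⟩ : LObj.{u}) x₁) h1).trans k1
      · change β ≫ s.α₂ ≫ _ = _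
        rw [← Category.assoc]
        exact (congrArg (· ≫ pbHom (⟨X₂, E₂⟩ : LObj.{u}) x₂) h2).trans k2
    · rintro ⟨β, h1, h2, h3⟩
      replace h1 : β ≫ s.α₁ ≫ pbHom (⟨X₁, E₁⟩ : LObj.{u}) x₁ = s'.α₁ := h1
      replace h2 : β ≫ s.α₂ ≫ pbHom (⟨X₂, E₂⟩ : LObj.{u}) x₂ = s'.α₂ := h2
      replace h3 : β.top ≫ s.q = s'.q ≫ t := h3
      refine ⟨β, ?_, ?_, h3⟩
      · refine c₁.hom_ext' (sq₁.hom_ext ?_ ?_) ?_
        · change (β.top ≫ s.α₁.top) ≫ x₁ = γ₁.top ≫ x₁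
          rw [g1, l1]
          exact congrArg LObj.Hom.top h1
        · change (β.top ≫ s.α₁.top) ≫ f₁' = γ₁.top ≫ f₁'
          rw [g1, l1', Category.assoc, s.sq₁.w, reassoc_of% h3, ht]
        · rw [Category.assoc]
          exact h1.trans k1.symm
      · refine c₂.hom_ext' (sq₂.hom_ext ?_ ?_) ?_
        · change (β.top ≫ s.α₂.top) ≫ x₂ = γ₂.top ≫ x₂
          rw [g2, l2]
          exact congrArg LObj.Hom.top h2
        · change (β.top ≫ s.α₂.top) ≫ f₂' = γ₂.top ≫ f₂'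
          rw [g2, l2', Category.assoc, s.sq₂.w, reassoc_of% h3, ht]
        · rw [Category.assoc]
          exact h2.trans k2.symm
  obtain ⟨t, ⟨ht1, ht2⟩, ht3⟩ := hs u s''
  exact ⟨t, ⟨ht1, (key t ht1).1 ht2⟩, fun t' ⟨h1, h2⟩ => ht3 t' ⟨h1, (key t' h1).2 h2⟩⟩

end push

section main

variable {B X₁ X₂ : Scheme.{u}} {f₁ : X₁ ⟶ B} {f₂ : X₂ ⟶ B} {E₁ : X₁.Modules} {E₂ : X₂.Modules} {g r : ℕ} {d : ℤ}

/-- Universal isomorphisms over a base over which the curves have universal isomorphisms. -/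
theorem exists_isoPt_of_cpt {W : Scheme.{u}} {w : W ⟶ B} (h₁ : FamCond g r d f₁ E₁) (h₂ : FamCond g r d f₂ E₂)
    [LocallyOfFinitePresentation f₁] (s₀ : K67.CPt f₁ f₂ w) (h₀ : s₀.IsUniv (fun _ => True)) :
    ∃ (Z : Scheme.{u}) (z : Z ⟶ W) (s : IsoPt f₁ f₂ E₁ E₂ (z ≫ w)), IsAffineHom z ∧ s.IsUniv := by
  have k₁ := famCond_pullback s₀.sq₁ h₁
  have k₂ := famCond_pullback s₀.sq₂ h₂
  have hp : IsProper s₀.q := k₁.1.2.1
  have hl : LocallyOfFinitePresentation s₀.q :=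
    MorphismProperty.of_isPullback (P := @LocallyOfFinitePresentation) s₀.sq₁ inferInstance
  obtain ⟨R, hR, -⟩ := K599.IsoGlue.exists_isoG (f := s₀.q)
    (K599.Good.Gd.of_proper k₁.2.1.2.1 k₁.2.1.1) (K599.Good.Gd.of_proper k₂.2.1.2.1 k₂.2.1.1)
  exact ⟨R.Z, R.z, isoPt s₀ R, hR, isUniv s₀ h₀ R⟩

/-- **The scheme of isomorphisms of two families of properly balanced bundles.** -/
theorem exists_isoPt (hPol : PolStmt.{u}) (hLfp : LfpStmt.{u}) (hg : 2 ≤ g) (hr : 1 ≤ r)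
    (h₁ : FamCond g r d f₁ E₁) (h₂ : FamCond g r d f₂ E₂) :
    ∃ (W : Scheme.{u}) (w : W ⟶ B) (p : IsoPt f₁ f₂ E₁ E₂ w), p.IsUniv ∧
      (@QuasiCompact ⊓ @IsSeparated : MorphismProperty Scheme.{u}) w := by
  have l₁ : LocallyOfFinitePresentation f₁ := hLfp _ _ f₁ g hg h₁.1
  have l₂ : LocallyOfFinitePresentation f₂ := hLfp _ _ f₂ g hg h₂.1
  have p₁ : IsProper f₁ := h₁.1.2.1
  have p₂ : IsProper f₂ := h₂.1.2.1
  have q₁ : Flat f₁ := h₁.1.1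
  have q₂ : Flat f₂ := h₂.1.1
  obtain ⟨Pol, hP1, hP2, -⟩ := hPol g r d hg hr
  refine K996.GlueB.exists_glue (Models2.FPCoh.isQCoh_of_isFP h₁.2.1.2.1) (Models2.FPCoh.isQCoh_of_isFP h₂.2.1.2.1)
    _ fun z => ?_
  obtain ⟨U₀, hU₀, hz₀, -⟩ := exists_isAffineOpen_mem_and_subset (x := z) (U := ⊤) trivial
  have : IsAffine U₀ := hU₀
  have t₁ := IsPullback.of_hasPullback f₁ U₀.ι
  have t₂ := IsPullback.of_hasPullback f₂ U₀.ι
  have k₁ := famCond_pullback t₁ h₁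
  have k₂ := famCond_pullback t₂ h₂
  obtain ⟨L, hL⟩ := hP1 _ _ _ _ inferInstance k₁
  obtain ⟨M, hM⟩ := hP1 _ _ _ _ inferInstance k₂
  have aL := hP2 _ _ _ _ L inferInstance k₁ hL
  have aM := hP2 _ _ _ _ M inferInstance k₂ hM
  obtain ⟨U, j, hj, hU, hz, H⟩ := K996.CurvIso.exists_cpt_nbhd f₁ f₂ (fibreDimAt_le h₁.1) z (j₀ := U₀.ι)
    ⟨⟨z, hz₀⟩, rfl⟩ t₁ t₂ aL aM
  have v₁ := IsPullback.of_hasPullback f₁ j
  have v₂ := IsPullback.of_hasPullback f₂ j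
  obtain ⟨W, w, s₀, w1, w2, w3, hs₀⟩ := H _ _ _ _ _ _ v₁ v₂
  obtain ⟨Z, ζ, s, hζ, hs⟩ := exists_isoPt_of_cpt (famCond_pullback v₁ h₁) (famCond_pullback v₂ h₂) s₀ hs₀
  -- the open subscheme
  let e : U ≅ j.opensRange.toScheme := j.isoOpensRange
  have he : e.hom ≫ j.opensRange.ι = j := j.isoOpensRange_hom_ι
  have he' : e.inv ≫ j = j.opensRange.ι := by rw [Iso.inv_comp_eq, he]
  obtain ⟨s₁, hs₁⟩ := exists_push v₁ v₂ s hs (v₀ := ((ζ ≫ w) ≫ e.hom) ≫ j.opensRange.ι) (by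
    rw [Category.assoc, Category.assoc, he, Category.assoc])
  refine ⟨j.opensRange, hz, Z, (ζ ≫ w) ≫ e.hom, s₁, ⟨?_, ?_⟩, ?_⟩
  · infer_instance
  · infer_instance
  · intro T u s'
    obtain ⟨t, ⟨ht1, ht2⟩, ht3⟩ := hs₁ T (u ≫ e.inv) (u ≫ j.opensRange.ι) (by rw [Category.assoc, he']) s'
    refine ⟨t, ⟨by rw [← Category.assoc, ht1, Category.assoc, e.inv_hom_id, Category.comp_id], ht2⟩, ?_⟩
    rintro t' ⟨h1, h2⟩
    exact ht3 t' ⟨by rw [← h1, Category.assoc, Category.assoc, e.hom_inv_id, Category.comp_id], h2⟩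

/-- **J6.** -/
theorem diagStmt (hPol : PolStmt.{u}) (hLfp : LfpStmt.{u}) : DiagStmt.{u} := by
  intro k _ _ _ g r d hg hr
  let Q : MorphismProperty Scheme.{u} := fun _ _ f => QuasiCompact f ∧ IsSeparated f
  have : Q.IsStableUnderBaseChange :=
    inferInstanceAs (@QuasiCompact ⊓ @IsSeparated : MorphismProperty Scheme.{u}).IsStableUnderBaseChange
  refine repByAlgSpWith_diag (Q := Q) (fun _ _ _ => Iff.rfl) _ (fun A B φ h => K996.FamDesc.inVec_of_hom φ h) ?_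
  rintro B X₁ X₂ f₁ f₂ E₁ E₂ ⟨_, _, h₁⟩ ⟨_, _, h₂⟩
  exact exists_isoPt hPol hLfp hg hr h₁ h₂

end main

end K996.Diag
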