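import Groth.Agent.VecBal.K996.Trans
import Groth.Agent.VecBal.K67.CPt
import Groth.Agent.ModSt.K599.Prod

/-!
# Universal isomorphisms of pairs (scheme, module) from those of the schemes and of the modules (helper996)
-/

set_option autoImplicit false

universe u

open CategoryTheory CategoryTheory.Limits AlgebraicGeometry Opposite

noncomputable section

namespace K996.Asm

open K599.LMod K599.Rep K599.Prod K996.Trans

variable {X₁ X₂ B W : Scheme.{u}} {f₁ : X₁ ⟶ B} {f₂ : X₂ ⟶ B} {w : W ⟶ B}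

/-- The isomorphism of the pairs given by isomorphisms of the schemes and the modules. -/
def isoPt (s₀ : K67.CPt f₁ f₂ w) {E₁ : X₁.Modules} {E₂ : X₂.Modules}
    (R : IsoG s₀.q ((Scheme.Modules.pullback s₀.p₁).obj E₁) ((Scheme.Modules.pullback s₀.p₂).obj E₂)) :
    IsoPt f₁ f₂ E₁ E₂ (R.z ≫ w) where
  y := R.pt.y
  q := R.pt.q
  α₁ := R.pt.γ ≫ pbHom (⟨X₁, E₁⟩ : LObj.{u}) s₀.p₁
  α₂ := R.pt.χ ≫ pbHom (⟨X₂, E₂⟩ : LObj.{u}) s₀.p₂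
  cart₁ := R.pt.cart.comp (cart_pbHom _ _)
  cart₂ := R.cart.comp (cart_pbHom _ _)
  sq₁ := R.pt.sq.paste_horiz s₀.sq₁
  sq₂ := by
    have h : R.pt.χ.top = R.pt.γ.top := R.pt.top
    change IsPullback (R.pt.χ.top ≫ s₀.p₂) R.pt.q f₂ (R.z ≫ w)
    rw [h]
    exact R.pt.sq.paste_horiz s₀.sq₂

/-- The underlying isomorphism of schemes. -/
def toCPt {T : Scheme.{u}} {u : T ⟶ B} {E₁ : X₁.Modules} {E₂ : X₂.Modules} (s : IsoPt f₁ f₂ E₁ E₂ u) :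
    K67.CPt f₁ f₂ u where
  Y := s.y.Y
  q := s.q
  p₁ := s.α₁.top
  p₂ := s.α₂.top
  sq₁ := s.sq₁
  sq₂ := s.sq₂

theorem toCPt_rel {T T' : Scheme.{u}} {u : T ⟶ B} {u' : T' ⟶ B} {E₁ : X₁.Modules} {E₂ : X₂.Modules}
    {s : IsoPt f₁ f₂ E₁ E₂ u} {s' : IsoPt f₁ f₂ E₁ E₂ u'} {t : T' ⟶ T} (h : s.Rel s' t) :
    (toCPt s).Rel (toCPt s') t := by
  obtain ⟨β, h1, h2, h3⟩ := h
  exact ⟨β.top, congrArg LObj.Hom.top h1, congrArg LObj.Hom.top h2, h3⟩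

theorem isUniv (s₀ : K67.CPt f₁ f₂ w) (h₀ : s₀.IsUniv (fun _ => True)) {E₁ : X₁.Modules} {E₂ : X₂.Modules}
    (R : IsoG s₀.q ((Scheme.Modules.pullback s₀.p₁).obj E₁) ((Scheme.Modules.pullback s₀.p₂).obj E₂)) :
    (isoPt s₀ R).IsUniv := by
  intro T u s
  obtain ⟨t₁, ⟨ht₁, b, hb1, hb2, hb3⟩, hu₁⟩ := h₀ T trivial u (toCPt s)
  replace hb1 : b ≫ s₀.p₁ = s.α₁.top := hb1
  replace hb2 : b ≫ s₀.p₂ = s.α₂.top := hb2
  replace hb3 : b ≫ s₀.q = s.q ≫ t₁ := hb3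
  let c₁ := cart_pbHom (⟨X₁, E₁⟩ : LObj.{u}) s₀.p₁
  let c₂ := cart_pbHom (⟨X₂, E₂⟩ : LObj.{u}) s₀.p₂
  let γ := c₁.lift s.α₁ b hb1
  have γt : γ.top = b := c₁.lift_top _ _ _
  have γc : γ ≫ pbHom (⟨X₁, E₁⟩ : LObj.{u}) s₀.p₁ = s.α₁ := c₁.lift_comp _ _ _
  let χ := c₂.lift s.α₂ b hb2
  have χt : χ.top = b := c₂.lift_top _ _ _
  have χc : χ ≫ pbHom (⟨X₂, E₂⟩ : LObj.{u}) s₀.p₂ = s.α₂ := c₂.lift_comp _ _ _
  have γk : Cart γ := Cart.of_comp c₁ (by rw [γc]; exact s.cart₁)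
  have χk : Cart χ := Cart.of_comp c₂ (by rw [χc]; exact s.cart₂)
  have hb : IsPullback b s.q s₀.q t₁ := by
    refine IsPullback.of_right (h₁₂ := s₀.p₁) (v₁₃ := f₁) (h₂₂ := w) ?_ hb3 s₀.sq₁
    rw [hb1, ht₁]
    exact s.sq₁
  let pt : Pt s₀.q ((Scheme.Modules.pullback s₀.p₂).obj E₂) ((Scheme.Modules.pullback s₀.p₁).obj E₁) t₁ :=
    { y := s.y, γ := γ, q := s.q, sq := by rw [γt]; exact hb, cart := γk, χ := χ, top := by rw [χt, γt] }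
  obtain ⟨t, ⟨htz, β, k1, k2, k3⟩, hu⟩ := R.univ pt χk
  replace k1 : β ≫ R.pt.γ = γ := k1
  replace k3 : β ≫ R.pt.χ = χ := k3
  refine ⟨t, ⟨by rw [← Category.assoc, htz, ht₁], β, ?_, ?_, k2⟩, ?_⟩
  · change β ≫ R.pt.γ ≫ _ = _
    rw [← Category.assoc, k1, γc]
  · change β ≫ R.pt.χ ≫ _ = _
    rw [← Category.assoc, k3, χc]
  · rintro t' ⟨m1, m⟩
    replace m : ∃ β' : s.y ⟶ R.pt.y, β' ≫ R.pt.γ ≫ pbHom (⟨X₁, E₁⟩ : LObj.{u}) s₀.p₁ = s.α₁ ∧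
      β' ≫ R.pt.χ ≫ pbHom (⟨X₂, E₂⟩ : LObj.{u}) s₀.p₂ = s.α₂ ∧ β'.top ≫ R.pt.q = s.q ≫ t' := m
    obtain ⟨β', m2, m3, m4⟩ := m
    have htop : R.pt.χ.top = R.pt.γ.top := R.pt.top
    let a : s.y.Y ⟶ R.pt.y.Y := β'.top
    let c : R.pt.y.Y ⟶ s₀.Y := R.pt.γ.top
    have hc : c ≫ s₀.q = R.pt.q ≫ R.z := R.pt.sq.w
    have m4' : a ≫ R.pt.q = s.q ≫ t' := m4
    have m2' : (a ≫ c) ≫ s₀.p₁ = s.α₁.top := congrArg LObj.Hom.top m2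
    have m3' : (a ≫ c) ≫ s₀.p₂ = s.α₂.top := by
      have h1 : (a ≫ R.pt.χ.top) ≫ s₀.p₂ = s.α₂.top := congrArg LObj.Hom.top m3
      rw [htop] at h1
      exact h1
    -- the morphism to `W`
    have e₁ : t' ≫ R.z = t₁ := by
      refine hu₁ _ ⟨by rw [Category.assoc]; exact m1, a ≫ c, m2', m3', ?_⟩
      change (a ≫ c) ≫ s₀.q = s.q ≫ t' ≫ R.z
      rw [Category.assoc, hc, reassoc_of% m4']
    have hbt : a ≫ c = b := by
      refine s₀.sq₁.hom_ext ?_ ?_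
      · exact m2'.trans hb1.symm
      · rw [Category.assoc, hc, reassoc_of% m4', e₁]
        exact hb3.symm
    refine hu _ ⟨e₁, β', ?_, m4, ?_⟩
    · refine c₁.hom_ext' ?_ ?_
      · change a ≫ c = γ.top
        rw [γt]
        exact hbt
      · rw [Category.assoc]
        exact m2.trans γc.symm
    · refine c₂.hom_ext' ?_ ?_
      · change a ≫ R.pt.χ.top = χ.top
        rw [χt, htop]
        exact hbt
      · rw [Category.assoc]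
        exact m3.trans χc.symm

end K996.Asm
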