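import Groth.Agent.CurvSt.K903.IsomSch
import Groth.Agent.CurvSt.K740.Stage
import Groth.Agent.Flat2D.SpecFGLimit
import Groth.Agent.CalgA.LimFP

/-!
# The scheme of isomorphisms of two projective families of curves over any base (helper996)
-/

set_option autoImplicit false
set_option linter.unusedSectionVars false
set_option backward.isDefEq.respectTransparency false
set_option backward.isDefEq.respectTransparency.types false

universe u

open CategoryTheory CategoryTheory.Limits AlgebraicGeometry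

namespace K996.CurvIso

/-- The condition on a morphism `g : T ⟶ W`: it induces the isomorphism `(c, d)` over `u`. -/
def Cls {S X Y W V : Scheme.{u}} (w : W ⟶ S) (p : V ⟶ W) (a : V ⟶ X) (b : V ⟶ Y) {T Z : Scheme.{u}} (u : T ⟶ S)
    (q : Z ⟶ T) (c : Z ⟶ X) (d : Z ⟶ Y) (g : T ⟶ W) : Prop :=
  g ≫ w = u ∧ ∃ v : Z ⟶ V, v ≫ p = q ≫ g ∧ v ≫ a = c ∧ v ≫ b = d

/-- The universal property at `T`. -/
def UPAt {S X Y W V : Scheme.{u}} (gX : X ⟶ S) (gY : Y ⟶ S) (w : W ⟶ S) (p : V ⟶ W) (a : V ⟶ X) (b : V ⟶ Y)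
    (T : Scheme.{u}) : Prop :=
  ∀ (u : T ⟶ S) {Z : Scheme.{u}} (q : Z ⟶ T) (c : Z ⟶ X) (d : Z ⟶ Y), IsPullback c q gX u → IsPullback d q gY u →
    ∃! g : T ⟶ W, Cls w p a b u q c d g

/-- `W` with the two cartesian squares represents the isomorphisms of `X` and `Y` over `S`. -/
structure IsIsom {S X Y W V : Scheme.{u}} (gX : X ⟶ S) (gY : Y ⟶ S) (w : W ⟶ S) (p : V ⟶ W) (a : V ⟶ X)
    (b : V ⟶ Y) : Prop where
  sX : IsPullback a p gX w
  sY : IsPullback b p gY w
  up : ∀ T : Scheme.{u}, UPAt gX gY w p a b T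

section basic

variable {S X Y W V : Scheme.{u}} {gX : X ⟶ S} {gY : Y ⟶ S} {w : W ⟶ S} {p : V ⟶ W} {a : V ⟶ X} {b : V ⟶ Y}

theorem Cls.comp {T Z T' Z' : Scheme.{u}} {u : T ⟶ S} {q : Z ⟶ T} {c : Z ⟶ X} {d : Z ⟶ Y} {g : T ⟶ W}
    (h : Cls w p a b u q c d g) {t : T' ⟶ T} {q' : Z' ⟶ T'} {z : Z' ⟶ Z} (e : z ≫ q = q' ≫ t) :
    Cls w p a b (t ≫ u) q' (z ≫ c) (z ≫ d) (t ≫ g) := by
  obtain ⟨h1, v, h2, h3, h4⟩ := h
  refine ⟨by rw [Category.assoc, h1], z ≫ v, ?_, ?_, ?_⟩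
  · rw [Category.assoc, h2, reassoc_of% e]
  · rw [Category.assoc, h3]
  · rw [Category.assoc, h4]

/-- Being the classifying morphism is local. -/
theorem Cls.of_cover (sX : IsPullback a p gX w) {T Z : Scheme.{u}} {u : T ⟶ S} {q : Z ⟶ T} {c : Z ⟶ X} {d : Z ⟶ Y}
    {g : T ⟶ W} (hc : c ≫ gX = q ≫ u) (𝒰 : T.OpenCover)
    (h : ∀ i, Cls w p a b (𝒰.f i ≫ u) (pullback.snd q (𝒰.f i)) (pullback.fst q (𝒰.f i) ≫ c)
      (pullback.fst q (𝒰.f i) ≫ d) (𝒰.f i ≫ g)) : Cls w p a b u q c d g := by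
  have h0 : g ≫ w = u := by
    refine 𝒰.hom_ext _ _ fun i => ?_
    rw [← Category.assoc, (h i).1]
  refine ⟨h0, sX.lift c (q ≫ g) (by rw [hc, Category.assoc, h0]), sX.lift_snd _ _ _, sX.lift_fst _ _ _, ?_⟩
  let 𝒱 : Z.OpenCover := 𝒰.pullback₁ q
  refine 𝒱.hom_ext _ _ fun i => ?_
  change pullback.fst q (𝒰.f i) ≫ _ = pullback.fst q (𝒰.f i) ≫ _
  obtain ⟨h1, v, h2, h3, h4⟩ := h i
  rw [← h4, ← Category.assoc]
  congr 1
  refine sX.hom_ext ?_ ?_
  · rw [Category.assoc, sX.lift_fst, h3]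
  · rw [Category.assoc, sX.lift_snd, h2, ← Category.assoc, pullback.condition, Category.assoc]

theorem unique_of_cover {T Z : Scheme.{u}} (𝒰 : T.OpenCover) (h : ∀ i, UPAt gX gY w p a b (𝒰.X i)) {u : T ⟶ S}
    {q : Z ⟶ T} {c : Z ⟶ X} {d : Z ⟶ Y} (h₁ : IsPullback c q gX u) (h₂ : IsPullback d q gY u) {g g' : T ⟶ W}
    (hg : Cls w p a b u q c d g) (hg' : Cls w p a b u q c d g') : g = g' := by
  refine 𝒰.hom_ext _ _ fun i => ?_
  have sq := IsPullback.of_hasPullback q (𝒰.f i)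
  exact (h i (𝒰.f i ≫ u) _ _ _ (sq.paste_horiz h₁) (sq.paste_horiz h₂)).unique (hg.comp sq.w) (hg'.comp sq.w)

theorem upAt_of_cover (sX : IsPullback a p gX w) {T : Scheme.{u}} (𝒰 : T.OpenCover)
    (h : ∀ i, UPAt gX gY w p a b (𝒰.X i))
    (h2 : ∀ (i i' : 𝒰.I₀), ∃ 𝒱 : (pullback (𝒰.f i) (𝒰.f i')).OpenCover, ∀ k, UPAt gX gY w p a b (𝒱.X k)) :
    UPAt gX gY w p a b T := by
  intro u Z q c d h₁ h₂
  refine existsUnique_of_exists_of_unique ?_ (fun g g' hg hg' => unique_of_cover 𝒰 h h₁ h₂ hg hg')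
  have sq (i) := IsPullback.of_hasPullback q (𝒰.f i)
  choose g hg hu using fun i => h i (𝒰.f i ≫ u) _ _ _ ((sq i).paste_horiz h₁) ((sq i).paste_horiz h₂)
  have hgg (i i' : 𝒰.I₀) : pullback.fst (𝒰.f i) (𝒰.f i') ≫ g i = pullback.snd (𝒰.f i) (𝒰.f i') ≫ g i' := by
    obtain ⟨𝒱, h𝒱⟩ := h2 i i'
    have s := IsPullback.of_hasPullback q (pullback.fst (𝒰.f i) (𝒰.f i') ≫ 𝒰.f i)
    have hcond := pullback.condition (f := 𝒰.f i) (g := 𝒰.f i')
    refine unique_of_cover 𝒱 h𝒱 (s.paste_horiz h₁) (s.paste_horiz h₂) ?_ ?_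
    · have := (hg i).comp (t := pullback.fst (𝒰.f i) (𝒰.f i')) (q' := pullback.snd q (pullback.fst (𝒰.f i) (𝒰.f i') ≫ 𝒰.f i))
        (z := (sq i).lift (pullback.fst _ _) (pullback.snd _ _ ≫ pullback.fst _ _) (by rw [s.w, Category.assoc]))
        ((sq i).lift_snd _ _ _)
      rwa [(sq i).lift_fst_assoc, (sq i).lift_fst_assoc, ← Category.assoc] at this
    · have := (hg i').comp (t := pullback.snd (𝒰.f i) (𝒰.f i'))
        (q' := pullback.snd q (pullback.fst (𝒰.f i) (𝒰.f i') ≫ 𝒰.f i))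
        (z := (sq i').lift (pullback.fst _ _) (pullback.snd _ _ ≫ pullback.snd _ _) (by
          rw [s.w, Category.assoc, hcond])) ((sq i').lift_snd _ _ _)
      rwa [(sq i').lift_fst_assoc, (sq i').lift_fst_assoc, ← Category.assoc, ← hcond] at this
  let G : T ⟶ W := 𝒰.glueMorphisms g hgg
  have hG (i) : 𝒰.f i ≫ G = g i := 𝒰.ι_glueMorphisms _ _ _
  refine ⟨G, Cls.of_cover sX h₁.w 𝒰 fun i => ?_⟩
  rw [hG]
  exact hg i

end basic

section limit

open Groth.Agent.CalgA.LimFP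

attribute [local instance] Mdl.lfp Mdl.qc Mdl.qs

variable {S X Y W V : Scheme.{u}} {gX : X ⟶ S} {gY : Y ⟶ S} {w : W ⟶ S} {p : V ⟶ W} {a : V ⟶ X} {b : V ⟶ Y}
  {I : Type u} [SmallCategory I] [IsCofiltered I]
  {D : I ⥤ Scheme.{u}} {c : Cone D} (hc : IsLimit c)
  [∀ (i j : I) (f : i ⟶ j), IsAffineHom (D.map f)] [∀ i, CompactSpace (D.obj i)] [∀ i, QuasiSeparatedSpace (D.obj i)]

include hc in
/-- A morphism to a scheme locally of finite presentation over the integers comes from a stage. -/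
theorem exists_stage [LocallyOfFinitePresentation (specULiftZIsTerminal.from S)] (u : c.pt ⟶ S) :
    ∃ (i : I) (v : D.obj i ⟶ S), c.π.app i ≫ v = u := by
  let t : D ⟶ (Functor.const I).obj (Spec (CommRingCat.of (ULift.{u} ℤ))) :=
    { app φ := specULiftZIsTerminal.from _
      naturality φ ψ h := specULiftZIsTerminal.hom_ext _ _ }
  obtain ⟨k, gk, hgk, -⟩ := Scheme.exists_π_app_comp_eq_of_locallyOfFinitePresentation D t
    (specULiftZIsTerminal.from S) c hc u (by ext φ : 2; exact specULiftZIsTerminal.hom_ext _ _)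
  exact ⟨k, gk, hgk⟩

include hc in
/-- Two morphisms from a stage which agree on the limit agree at a further stage. -/
theorem stage_eq [LocallyOfFiniteType (specULiftZIsTerminal.from S)] {i : I} (v v' : D.obj i ⟶ S)
    (h : c.π.app i ≫ v = c.π.app i ≫ v') : ∃ (j : I) (φ : j ⟶ i), D.map φ ≫ v = D.map φ ≫ v' := by
  let t : D ⟶ (Functor.const I).obj (Spec (CommRingCat.of (ULift.{u} ℤ))) :=
    { app φ := specULiftZIsTerminal.from _
      naturality φ ψ h := specULiftZIsTerminal.hom_ext _ _ }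
  obtain ⟨k, a, ha⟩ := Scheme.exists_hom_comp_eq_comp_of_locallyOfFiniteType D t
    (specULiftZIsTerminal.from S) c hc (i := i) v v' (specULiftZIsTerminal.hom_ext _ _)
    (specULiftZIsTerminal.hom_ext _ _) h
  exact ⟨k, a, ha⟩

/-- The model of a pulled back family. -/
noncomputable def mdlOf [LocallyOfFinitePresentation gX] [QuasiCompact gX] [QuasiSeparated gX] {i : I}
    (v : D.obj i ⟶ S) {Z : Scheme.{u}} {q : Z ⟶ c.pt} {x : Z ⟶ X} (h : IsPullback x q gX (c.π.app i ≫ v)) :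
    Mdl q i where
  A := pullback gX v
  f := pullback.snd _ _
  p := pullback.lift x (q ≫ c.π.app i) (by rw [h.w, Category.assoc])
  h := by
    refine IsPullback.of_right (h₁₂ := pullback.fst gX v) (v₁₃ := gX) (h₂₂ := v) ?_ (pullback.lift_snd _ _ _)
      (IsPullback.of_hasPullback _ _)
    rw [pullback.lift_fst]
    exact h
  lfp := inferInstance
  qc := inferInstance
  qs := inferInstance

include hc in
theorem upAt_limit [LocallyOfFinitePresentation (specULiftZIsTerminal.from S)]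
    [LocallyOfFinitePresentation (specULiftZIsTerminal.from Y)]
    [LocallyOfFinitePresentation (specULiftZIsTerminal.from W)]
    [LocallyOfFinitePresentation gX] [QuasiCompact gX] [QuasiSeparated gX]
    [LocallyOfFinitePresentation gY] [QuasiCompact gY] [QuasiSeparated gY]
    (sX : IsPullback a p gX w) (sY : IsPullback b p gY w) (hUP : ∀ i, UPAt gX gY w p a b (D.obj i)) :
    UPAt gX gY w p a b c.pt := by
  intro u Z q x y h₁ h₂
  refine existsUnique_of_exists_of_unique ?_ ?_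
  · obtain ⟨i, v, rfl⟩ := exists_stage hc u
    let M := mdlOf v h₁
    let N := mdlOf v h₂
    obtain ⟨j, φ, e, he⟩ := Mdl.exists_iso hc M N (𝟙 Z) (Category.id_comp q)
    have t₁ : IsPullback (pullback.fst M.f (D.map φ) ≫ pullback.fst gX v) (M.bc φ).f gX (D.map φ ≫ v) :=
      (IsPullback.of_hasPullback M.f (D.map φ)).paste_horiz (IsPullback.of_hasPullback gX v)
    have t₂ : IsPullback (pullback.fst N.f (D.map φ) ≫ pullback.fst gY v) (N.bc φ).f gY (D.map φ ≫ v) :=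
      (IsPullback.of_hasPullback N.f (D.map φ)).paste_horiz (IsPullback.of_hasPullback gY v)
    have t₃ : IsPullback (e.φ ≫ pullback.fst N.f (D.map φ) ≫ pullback.fst gY v) (M.bc φ).f gY (D.map φ ≫ v) := by
      refine t₂.of_iso (asIso e.φ).symm (Iso.refl _) (Iso.refl _) (Iso.refl _) ?_ ?_ ?_ ?_
      · change _ ≫ 𝟙 _ = (asIso e.φ).inv ≫ e.φ ≫ _
        simp
      · change _ ≫ 𝟙 _ = (asIso e.φ).inv ≫ _
        rw [Category.comp_id, Iso.eq_inv_comp]
        exact e.w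
      · simp
      · simp
    obtain ⟨g, hg, -⟩ := hUP j _ _ _ _ t₁ t₃
    have := hg.comp (t := c.π.app j) (q' := q) (z := (M.bc φ).p) (M.bc φ).h.w
    refine ⟨c.π.app j ≫ g, ?_⟩
    have k1 : c.π.app j ≫ D.map φ ≫ v = c.π.app i ≫ v := by rw [← Category.assoc, c.w]
    have k2 : (M.bc φ).p ≫ pullback.fst M.f (D.map φ) ≫ pullback.fst gX v = x := by
      simp [M, mdlOf]
    have k3 : (M.bc φ).p ≫ e.φ ≫ pullback.fst N.f (D.map φ) ≫ pullback.fst gY v = y := by
      rw [reassoc_of% e.wp]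
      simp [N, mdlOf]
    rwa [k1, k2, k3] at this
  · rintro g g' ⟨hg1, v, hv1, hv2, hv3⟩ ⟨hg1', v', hv1', hv2', hv3'⟩
    -- the two morphisms come from a common stage
    obtain ⟨i, m, m', hm, hm'⟩ : ∃ (i : I) (m m' : D.obj i ⟶ W), c.π.app i ≫ m = g ∧ c.π.app i ≫ m' = g' := by
      obtain ⟨i₁, m₁, h₁⟩ := exists_stage hc g
      obtain ⟨i₂, m₂, h₂⟩ := exists_stage hc g'
      refine ⟨IsCofiltered.min i₁ i₂, D.map (IsCofiltered.minToLeft i₁ i₂) ≫ m₁,
        D.map (IsCofiltered.minToRight i₁ i₂) ≫ m₂, ?_, ?_⟩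
      · rw [← Category.assoc, c.w, h₁]
      · rw [← Category.assoc, c.w, h₂]
    -- the structure morphisms agree at a further stage
    obtain ⟨j, φ, hφ⟩ := stage_eq hc (m ≫ w) (m' ≫ w) (by
      rw [← Category.assoc, hm, ← Category.assoc, hm', hg1, hg1'])
    obtain ⟨j, n, n', hn, hn', hnw⟩ : ∃ (j : I) (n n' : D.obj j ⟶ W), c.π.app j ≫ n = g ∧ c.π.app j ≫ n' = g' ∧
        n ≫ w = n' ≫ w := by
      refine ⟨j, D.map φ ≫ m, D.map φ ≫ m', ?_, ?_, ?_⟩
      · rw [← Category.assoc, c.w, hm]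
      · rw [← Category.assoc, c.w, hm']
      · rw [Category.assoc, hφ, Category.assoc]
    clear hm hm' hφ
    have hu : c.π.app j ≫ n ≫ w = u := by rw [← Category.assoc, hn, hg1]
    subst hu
    let M := mdlOf (n ≫ w) h₁
    have hM := IsPullback.of_hasPullback gX (n ≫ w)
    let r : M.A ⟶ V := sX.lift (pullback.fst gX (n ≫ w)) (pullback.snd gX (n ≫ w) ≫ n) (by
      rw [hM.w, Category.assoc])
    let r' : M.A ⟶ V := sX.lift (pullback.fst gX (n ≫ w)) (pullback.snd gX (n ≫ w) ≫ n') (by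
      rw [hM.w, Category.assoc]
      exact congrArg _ hnw)
    have hr1 : r ≫ a = pullback.fst gX (n ≫ w) := sX.lift_fst _ _ _
    have hr2 : r ≫ p = pullback.snd gX (n ≫ w) ≫ n := sX.lift_snd _ _ _
    have hr1' : r' ≫ a = pullback.fst gX (n ≫ w) := sX.lift_fst _ _ _
    have hr2' : r' ≫ p = pullback.snd gX (n ≫ w) ≫ n' := sX.lift_snd _ _ _
    have hp1 : M.p ≫ pullback.fst gX (n ≫ w) = x := pullback.lift_fst _ _ _
    have hp2 : M.p ≫ pullback.snd gX (n ≫ w) = q ≫ c.π.app j := pullback.lift_snd _ _ _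
    have e : M.p ≫ r = v := by
      refine sX.hom_ext ?_ ?_
      · rw [Category.assoc, hr1, hp1, hv2]
      · rw [Category.assoc, hr2, reassoc_of% hp2, hn, hv1]
    have e' : M.p ≫ r' = v' := by
      refine sX.hom_ext ?_ ?_
      · rw [Category.assoc, hr1', hp1, hv2']
      · rw [Category.assoc, hr2', reassoc_of% hp2, hn', hv1']
    have hYt : LocallyOfFiniteType (specULiftZIsTerminal.from Y) := inferInstance
    obtain ⟨k, ψ, hψ⟩ := K740.Stage.eq_stage_hom D c hc M.f M.h (r ≫ b) (r' ≫ b) (by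
      rw [← Category.assoc, e, hv3, ← Category.assoc, e', hv3'])
    have t := IsPullback.of_hasPullback M.f (D.map ψ)
    have sr : IsPullback r M.f p n := by
      refine IsPullback.of_right (h₁₂ := a) (v₁₃ := gX) (h₂₂ := w) ?_ hr2 sX
      rw [hr1]
      exact hM
    have t₁ : IsPullback (pullback.fst M.f (D.map ψ) ≫ pullback.fst gX (n ≫ w)) (pullback.snd M.f (D.map ψ)) gX
      (D.map ψ ≫ n ≫ w) := t.paste_horiz hM
    have t₂ : IsPullback (pullback.fst M.f (D.map ψ) ≫ r ≫ b) (pullback.snd M.f (D.map ψ)) gY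
      (D.map ψ ≫ n ≫ w) := t.paste_horiz (sr.paste_horiz sY)
    have key : D.map ψ ≫ n = D.map ψ ≫ n' := by
      refine (hUP k _ _ _ _ t₁ t₂).unique ⟨Category.assoc _ _ _, pullback.fst M.f (D.map ψ) ≫ r, ?_, ?_, ?_⟩
        ⟨by rw [Category.assoc, ← hnw], pullback.fst M.f (D.map ψ) ≫ r', ?_, ?_, ?_⟩
      · rw [Category.assoc, hr2, ← Category.assoc]
        change (pullback.fst M.f (D.map ψ) ≫ M.f) ≫ n = _
        rw [t.w, Category.assoc]
      · rw [Category.assoc, hr1]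
      · rw [Category.assoc]
      · rw [Category.assoc, hr2', ← Category.assoc]
        change (pullback.fst M.f (D.map ψ) ≫ M.f) ≫ n' = _
        rw [t.w, Category.assoc]
      · rw [Category.assoc, hr1']
      · rw [Category.assoc, hψ]
    rw [← hn, ← hn', ← c.w ψ, Category.assoc, Category.assoc, key]

end limit

section bc

variable {S X Y W V S' X' Y' : Scheme.{u}} {gX : X ⟶ S} {gY : Y ⟶ S} {w : W ⟶ S} {p : V ⟶ W} {a : V ⟶ X} {b : V ⟶ Y}

theorem IsIsom.bc (h : IsIsom gX gY w p a b) {gX' : X' ⟶ S'} {gY' : Y' ⟶ S'} {s : S' ⟶ S} {x : X' ⟶ X} {y : Y' ⟶ Y}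
    (sx : IsPullback x gX' gX s) (sy : IsPullback y gY' gY s) {W' : Scheme.{u}} {m : W' ⟶ W} {w' : W' ⟶ S'}
    (sw : IsPullback m w' w s) :
    ∃ (V' : Scheme.{u}) (p' : V' ⟶ W') (a' : V' ⟶ X') (b' : V' ⟶ Y'), IsIsom gX' gY' w' p' a' b' := by
  have sv := IsPullback.of_hasPullback p m
  have ea : (pullback.fst p m ≫ a) ≫ gX = (pullback.snd p m ≫ w') ≫ s := by
    rw [Category.assoc, h.sX.w, sv.w_assoc, sw.w, Category.assoc]
  have eb : (pullback.fst p m ≫ b) ≫ gY = (pullback.snd p m ≫ w') ≫ s := by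
    rw [Category.assoc, h.sY.w, sv.w_assoc, sw.w, Category.assoc]
  have ha1 : sx.lift _ _ ea ≫ x = pullback.fst p m ≫ a := sx.lift_fst _ _ _
  have ha2 : sx.lift _ _ ea ≫ gX' = pullback.snd p m ≫ w' := sx.lift_snd _ _ _
  have hb1 : sy.lift _ _ eb ≫ y = pullback.fst p m ≫ b := sy.lift_fst _ _ _
  have hb2 : sy.lift _ _ eb ≫ gY' = pullback.snd p m ≫ w' := sy.lift_snd _ _ _
  refine ⟨pullback p m, pullback.snd p m, sx.lift _ _ ea, sy.lift _ _ eb, ?_, ?_, ?_⟩
  · refine IsPullback.of_right (h₁₂ := x) (v₁₃ := gX) (h₂₂ := s) ?_ ha2 sx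
    rw [ha1, ← sw.w]
    exact sv.paste_horiz h.sX
  · refine IsPullback.of_right (h₁₂ := y) (v₁₃ := gY) (h₂₂ := s) ?_ hb2 sy
    rw [hb1, ← sw.w]
    exact sv.paste_horiz h.sY
  · intro T u Z q c d h₁ h₂
    obtain ⟨g, ⟨hg, v, hv1, hv2, hv3⟩, hu⟩ := h.up T (u ≫ s) q (c ≫ x) (d ≫ y) (h₁.paste_horiz sx) (h₂.paste_horiz sy)
    have e1 : sw.lift g u hg ≫ m = g := sw.lift_fst _ _ _
    have e2 : sw.lift g u hg ≫ w' = u := sw.lift_snd _ _ _
    have e3 : v ≫ p = (q ≫ sw.lift g u hg) ≫ m := by rw [hv1, Category.assoc, e1]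
    refine ⟨sw.lift g u hg, ⟨e2, sv.lift v (q ≫ sw.lift g u hg) e3, sv.lift_snd _ _ _, ?_, ?_⟩, ?_⟩
    · refine sx.hom_ext ?_ ?_
      · rw [Category.assoc, ha1, sv.lift_fst_assoc, hv2]
      · rw [Category.assoc, ha2, sv.lift_snd_assoc, Category.assoc, e2, h₁.w]
    · refine sy.hom_ext ?_ ?_
      · rw [Category.assoc, hb1, sv.lift_fst_assoc, hv3]
      · rw [Category.assoc, hb2, sv.lift_snd_assoc, Category.assoc, e2, h₂.w]
    · rintro g' ⟨k1, v', k2, k3, k4⟩
      refine sw.hom_ext ?_ (by rw [k1, e2])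
      rw [e1]
      refine hu _ ⟨by rw [Category.assoc, sw.w, ← Category.assoc, k1], v' ≫ pullback.fst p m, ?_, ?_, ?_⟩
      · rw [Category.assoc, sv.w, reassoc_of% k2]
      · rw [Category.assoc, ← ha1, reassoc_of% k3]
      · rw [Category.assoc, ← hb1, reassoc_of% k4]

end bc

section base

/-- The universal property on locally Noetherian schemes over a connected affine Noetherian base. -/
theorem exists_upAt_ln {S X Y : Scheme.{u}} [IsAffine S] [IsNoetherian S] [ConnectedSpace S]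
    (gX : X ⟶ S) (gY : Y ⟶ S) [IsProper gX] [Flat gX] [IsProper gY] [Flat gY]
    (hdim : ∀ (K : Type u) [Field K] (s : Spec (CommRingCat.of K) ⟶ S), topologicalKrullDim ↥(pullback gX s) ≤ 1)
    {L : X.Modules} {M : Y.Modules} (hL : CohB1.IsAmple L) (hM : CohB1.IsAmple M) :
    ∃ (W V : Scheme.{u}) (w : W ⟶ S) (p : V ⟶ W) (a : V ⟶ X) (b : V ⟶ Y), LocallyOfFiniteType w ∧ QuasiCompact w ∧
      IsSeparated w ∧ IsPullback a p gX w ∧ IsPullback b p gY w ∧
      ∀ T : Scheme.{u}, IsLocallyNoetherian T → UPAt gX gY w p a b T := by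
  obtain ⟨H, B, j, θ, h1, h2, h3, h4, h5⟩ := K903.IsomBdd.exists_isom_curves gX gY hdim hL hM
  have hjw : j.left ≫ H.hom = B.hom := Over.w j
  have hB : IsNoetherian B.left := by
    have : IsLocallyNoetherian B.left := isLocallyNoetherian_of_isOpenImmersion j.left
    have : CompactSpace B.left := by
      have h6 : IsCompact (Set.range j.left) := TopologicalSpace.NoetherianSpace.isCompact _
      have h7 : Topology.IsInducing j.left := j.left.isOpenEmbedding.isInducing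
      rw [← isCompact_univ_iff, h7.isCompact_iff, Set.image_univ]
      exact h6
    exact { }
  have i1 : LocallyOfFiniteType B.hom := by
    rw [← hjw]
    infer_instance
  have i2 : QuasiCompact B.hom := inferInstance
  have i3 : IsSeparated B.hom := by
    rw [← hjw]
    infer_instance
  have sX := IsPullback.of_hasPullback gX B.hom
  have sY := IsPullback.of_hasPullback gY B.hom
  refine ⟨B.left, PicF.XT gX B, B.hom, PicF.XTproj gX B, pullback.fst gX B.hom, θ.hom ≫ pullback.fst gY B.hom,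
    i1, i2, i3, sX, ?_, ?_⟩
  · refine sY.of_iso θ.symm (Iso.refl _) (Iso.refl _) (Iso.refl _) ?_ ?_ ?_ ?_
    · change _ ≫ 𝟙 _ = θ.inv ≫ θ.hom ≫ _
      rw [θ.inv_hom_id_assoc, Category.comp_id]
    · change _ ≫ 𝟙 _ = θ.inv ≫ _
      rw [Category.comp_id, Iso.eq_inv_comp]
      exact h4
    · simp
    · simp
  · intro T₀ hT₀ l V' p' a' t' q₁ q₂
    let T : Over S := Over.mk l
    have : IsLocallyNoetherian T.left := hT₀
    let e₁ : V' ≅ PicF.XT gX T := q₁.isoPullback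
    let e₂ : V' ≅ PicF.XT gY T := q₂.isoPullback
    have e₁f : e₁.hom ≫ pullback.fst gX l = a' := q₁.isoPullback_hom_fst
    have e₁s : e₁.hom ≫ pullback.snd gX l = p' := q₁.isoPullback_hom_snd
    have e₂f : e₂.hom ≫ pullback.fst gY l = t' := q₂.isoPullback_hom_fst
    have e₂s : e₂.hom ≫ pullback.snd gY l = p' := q₂.isoPullback_hom_snd
    obtain ⟨g, hg, hu⟩ := h5 T (e₁.symm ≪≫ e₂) (by
      change (e₁.inv ≫ e₂.hom) ≫ pullback.snd gY l = pullback.snd gX l
      rw [Category.assoc, e₂s, Iso.inv_comp_eq, e₁s])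
    replace hg : PicF.XTmap gX g ≫ θ.hom = (e₁.inv ≫ e₂.hom) ≫ PicF.XTmap gY g := hg
    have m1 (g : T ⟶ B) : PicF.XTmap gX g ≫ pullback.fst gX B.hom = pullback.fst gX l := by
      simp [PicF.XTmap, T]
    have m2 (g : T ⟶ B) : PicF.XTmap gX g ≫ PicF.XTproj gX B = PicF.XTproj gX T ≫ g.left := PicGrp.XTmap_XTproj gX g
    have m3 (g : T ⟶ B) : PicF.XTmap gY g ≫ pullback.fst gY B.hom = pullback.fst gY l := by
      simp [PicF.XTmap, T]
    have m4 (g : T ⟶ B) : PicF.XTmap gY g ≫ PicF.XTproj gY B = PicF.XTproj gY T ≫ g.left := PicGrp.XTmap_XTproj gY g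
    refine ⟨g.left, ⟨Over.w g, e₁.hom ≫ PicF.XTmap gX g, ?_, ?_, ?_⟩, ?_⟩
    · rw [Category.assoc, m2, ← Category.assoc]
      exact congrArg (· ≫ g.left) e₁s
    · rw [Category.assoc, m1, e₁f]
    · rw [Category.assoc, reassoc_of% hg, m3, Iso.hom_inv_id_assoc, e₂f]
    · rintro g' ⟨k1, v, k2, k3, k4⟩
      let g₁ : T ⟶ B := Over.homMk g' k1
      have hv : e₁.inv ≫ v = PicF.XTmap gX g₁ := by
        refine sX.hom_ext ?_ ?_
        · rw [Category.assoc, k3, m1, Iso.inv_comp_eq, e₁f]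
        · change (e₁.inv ≫ v) ≫ PicF.XTproj gX B = PicF.XTmap gX g₁ ≫ PicF.XTproj gX B
          rw [m2, Category.assoc]
          change e₁.inv ≫ v ≫ PicF.XTproj gX B = pullback.snd gX l ≫ g'
          rw [k2, ← Category.assoc]
          congr 1
          rw [Iso.inv_comp_eq, e₁s]
      have key : g₁ = g := by
        refine hu _ ?_
        change PicF.XTmap gX g₁ ≫ θ.hom = (e₁.inv ≫ e₂.hom) ≫ PicF.XTmap gY g₁
        rw [← hv, Category.assoc, Category.assoc]
        congr 1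
        refine sY.hom_ext ?_ ?_
        · rw [Category.assoc, k4, Category.assoc, m3, e₂f]
        · change (v ≫ θ.hom) ≫ PicF.XTproj gY B = (e₂.hom ≫ PicF.XTmap gY g₁) ≫ PicF.XTproj gY B
          rw [Category.assoc, h4, k2, Category.assoc, m4]
          change _ = e₂.hom ≫ pullback.snd gY l ≫ g'
          rw [reassoc_of% e₂s]
      exact congrArg (fun h : T ⟶ B => h.left) key

open K740.Emb Groth.Agent.Flat2D.SpecFGLimit in
/-- The scheme of isomorphisms over a connected affine Noetherian base of finite type over the integers. -/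
theorem exists_isIsom_base {S X Y : Scheme.{u}} [IsAffine S] [IsNoetherian S] [ConnectedSpace S]
    [LocallyOfFiniteType (specULiftZIsTerminal.from S)]
    (gX : X ⟶ S) (gY : Y ⟶ S) [IsProper gX] [Flat gX] [IsProper gY] [Flat gY]
    (hdim : ∀ (K : Type u) [Field K] (s : Spec (CommRingCat.of K) ⟶ S), topologicalKrullDim ↥(pullback gX s) ≤ 1)
    {L : X.Modules} {M : Y.Modules} (hL : CohB1.IsAmple L) (hM : CohB1.IsAmple M) :
    ∃ (W V : Scheme.{u}) (w : W ⟶ S) (p : V ⟶ W) (a : V ⟶ X) (b : V ⟶ Y), LocallyOfFinitePresentation w ∧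
      QuasiCompact w ∧ IsSeparated w ∧ IsIsom gX gY w p a b := by
  obtain ⟨W, V, w, p, a, b, h1, h2, h3, h4, h5, h6⟩ := exists_upAt_ln gX gY hdim hL hM
  have l1 : LocallyOfFinitePresentation gX := lfp_of_noeth gX
  have l2 : LocallyOfFinitePresentation gY := lfp_of_noeth gY
  have l3 : LocallyOfFinitePresentation w := lfp_of_noeth w
  have l4 : LocallyOfFinitePresentation (specULiftZIsTerminal.from S) := lfp_of_noeth _
  have l5 : LocallyOfFinitePresentation (specULiftZIsTerminal.from Y) := by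
    rw [show specULiftZIsTerminal.from Y = gY ≫ specULiftZIsTerminal.from S from specULiftZIsTerminal.hom_ext _ _]
    infer_instance
  have l6 : LocallyOfFinitePresentation (specULiftZIsTerminal.from W) := by
    rw [show specULiftZIsTerminal.from W = w ≫ specULiftZIsTerminal.from S from specULiftZIsTerminal.hom_ext _ _]
    infer_instance
  have hspec (A : Type u) [CommRing A] : UPAt gX gY w p a b (Spec (CommRingCat.of A)) :=
    upAt_limit (Groth.Agent.Flat2D.SpecFGLimit.isLimitSpecCone A) h4 h5 (fun i => h6 _ inferInstance)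
  have hcov (T : Scheme.{u}) : ∃ 𝒱 : T.OpenCover, ∀ k, UPAt gX gY w p a b (𝒱.X k) :=
    ⟨T.affineCover, fun k => hspec _⟩
  refine ⟨W, V, w, p, a, b, l3, h2, h3, h4, h5, fun T => ?_⟩
  obtain ⟨𝒱, h𝒱⟩ := hcov T
  exact upAt_of_cover h4 𝒱 h𝒱 (fun i i' => hcov _)

end base

end K996.CurvIso
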