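import Groth.Agent.VecBal.K996.CurvIso
import Groth.Agent.Flat2H.AmpleModel
import Groth.Agent.Flat2H.FamOpen

/-!
# The scheme of isomorphisms of two polarised families of curves, locally on any base (helper996)

* `K996.CurvIso.exists_isIsom_nbhd` : `S` affine, `gX : X ⟶ S`, `gY : Y ⟶ S` proper, flat, of finite presentation,
  fibres of `gX` of dimension `≤ 1`, ample modules on `X` and `Y`. Every point of `S` has an open neighbourhood over
  which the functor of isomorphisms (on all schemes) is represented by a scheme of finite presentation and separated.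
-/

set_option autoImplicit false
set_option linter.unusedSectionVars false
set_option backward.isDefEq.respectTransparency false
set_option backward.isDefEq.respectTransparency.types false

universe u

open CategoryTheory CategoryTheory.Limits AlgebraicGeometry

namespace K996.CurvIso

section model

open Groth.Agent.Flat2D.SpecFGLimit Groth.Agent.Flat2H.AmpleModel K740.Stage K740.Emb

variable {I : Type u} [SmallCategory I] [IsCofiltered I]
  {D : I ⥤ Scheme.{u}} {c : Cone D} (hc : IsLimit c)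
  [∀ (i j : I) (f : i ⟶ j), IsAffineHom (D.map f)] [∀ i, CompactSpace (D.obj i)] [∀ i, QuasiSeparatedSpace (D.obj i)]

include hc in
theorem exists_dim_model {X : Scheme.{u}} (f : X ⟶ c.pt) [IsProper f] [Flat f] [LocallyOfFinitePresentation f]
    {L : X.Modules} (hL : CohB1.IsAmple L) (hdim : ∀ x, FlatMor.fibreDimAt f x ≤ 1) :
    ∃ (i : I) (X₀ : Scheme.{u}) (f₀ : X₀ ⟶ D.obj i) (p : X ⟶ X₀) (L₀ : X₀.Modules),
      IsPullback p f f₀ (c.π.app i) ∧ IsProper f₀ ∧ Flat f₀ ∧ LocallyOfFinitePresentation f₀ ∧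
      CohB1.IsAmple L₀ ∧ ∀ x, FlatMor.fibreDimAt f₀ x ≤ 1 := by
  obtain ⟨i, X₀, f₀, p, L₀, sq, h1, h2, h3, h4, -⟩ := exists_proper_flat_ample_model hc (f' := f) hL
  let M : K740.Stage.Model (D := D) f (specULiftZIsTerminal.from X) i :=
    { X₀ := X₀, q₀ := f₀, j₀ := specULiftZIsTerminal.from X₀, w := p, sq := sq
      hj := specULiftZIsTerminal.hom_ext _ _
      lfp := h3, qc := inferInstance, qs := inferInstance }
  obtain ⟨k, φ, hk⟩ := M.exists_dim hc hdim
  have ha : IsAffineHom (pullback.fst f₀ (D.map φ)) := MorphismProperty.pullback_fst _ _ inferInstance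
  exact ⟨k, pullback f₀ (D.map φ), pullback.snd f₀ (D.map φ), K740.Stage.toStage D sq φ,
    (Scheme.Modules.pullback (pullback.fst f₀ (D.map φ))).obj L₀, K740.Stage.isPullback_toStage D sq φ,
    inferInstance, inferInstance, inferInstance,
    Groth.Agent.Flat2H.FamOpen.isAmple_pullback_of_isAffineHom _ h4, hk⟩

include hc in
/-- A model at a stage of a pair of polarised families. -/
theorem exists_pair_model' {X Y : Scheme.{u}} (f : X ⟶ c.pt)
    (g : Y ⟶ c.pt) [IsProper f] [Flat f] [LocallyOfFinitePresentation f] [IsProper g] [Flat g]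
    [LocallyOfFinitePresentation g] {L : X.Modules} (hL : CohB1.IsAmple L) {M : Y.Modules} (hM : CohB1.IsAmple M)
    (hdim : ∀ x, FlatMor.fibreDimAt f x ≤ 1) :
    ∃ (k : I) (X₀ Y₀ : Scheme.{u}) (f₀ : X₀ ⟶ D.obj k) (g₀ : Y₀ ⟶ D.obj k) (x : X ⟶ X₀)
      (y : Y ⟶ Y₀) (L₀ : X₀.Modules) (M₀ : Y₀.Modules), IsPullback x f f₀ (c.π.app k) ∧
      IsPullback y g g₀ (c.π.app k) ∧
      IsProper f₀ ∧ Flat f₀ ∧ LocallyOfFinitePresentation f₀ ∧ IsProper g₀ ∧ Flat g₀ ∧
      LocallyOfFinitePresentation g₀ ∧ CohB1.IsAmple L₀ ∧ CohB1.IsAmple M₀ ∧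
      ∀ x, FlatMor.fibreDimAt f₀ x ≤ 1 := by
  obtain ⟨i, X₀, f₀, x, L₀, sx, h1, h2, h3, h4, h5⟩ := exists_dim_model hc f hL hdim
  obtain ⟨j, Y₀, g₀, y, M₀, sy, k1, k2, k3, k4, -⟩ := exists_proper_flat_ample_model hc (f' := g) hM
  let k := IsCofiltered.min i j
  let φ : k ⟶ i := IsCofiltered.minToLeft i j
  let ψ : k ⟶ j := IsCofiltered.minToRight i j
  have ha : IsAffineHom (pullback.fst f₀ (D.map φ)) := MorphismProperty.pullback_fst _ _ inferInstance
  have hb : IsAffineHom (pullback.fst g₀ (D.map ψ)) := MorphismProperty.pullback_fst _ _ inferInstance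
  exact ⟨k, pullback f₀ (D.map φ), pullback g₀ (D.map ψ), pullback.snd _ _, pullback.snd _ _, _, _,
    (Scheme.Modules.pullback (pullback.fst _ _)).obj L₀,
    (Scheme.Modules.pullback (pullback.fst _ _)).obj M₀,
    K740.Stage.isPullback_toStage D sx φ, K740.Stage.isPullback_toStage D sy ψ, inferInstance, inferInstance,
    inferInstance, inferInstance, inferInstance, inferInstance,
    Groth.Agent.Flat2H.FamOpen.isAmple_pullback_of_isAffineHom _ h4,
    Groth.Agent.Flat2H.FamOpen.isAmple_pullback_of_isAffineHom _ k4,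
    fibreDimAt_le_bc (IsPullback.of_hasPullback f₀ (D.map φ)) h5⟩

end model

section spec

open Groth.Agent.Flat2D.SpecFGLimit

/-- A model over a finitely generated ring of a pair of polarised families. -/
theorem exists_pair_model (A : Type u) [CommRing A] {X Y : Scheme.{u}} (f : X ⟶ Spec (CommRingCat.of A))
    (g : Y ⟶ Spec (CommRingCat.of A)) [IsProper f] [Flat f] [LocallyOfFinitePresentation f] [IsProper g] [Flat g]
    [LocallyOfFinitePresentation g] {L : X.Modules} (hL : CohB1.IsAmple L) {M : Y.Modules} (hM : CohB1.IsAmple M)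
    (hdim : ∀ x, FlatMor.fibreDimAt f x ≤ 1) :
    ∃ (T₀ X₀ Y₀ : Scheme.{u}) (b : Spec (CommRingCat.of A) ⟶ T₀) (f₀ : X₀ ⟶ T₀) (g₀ : Y₀ ⟶ T₀) (x : X ⟶ X₀)
      (y : Y ⟶ Y₀) (L₀ : X₀.Modules) (M₀ : Y₀.Modules), IsAffine T₀ ∧ IsNoetherian T₀ ∧
      LocallyOfFiniteType (specULiftZIsTerminal.from T₀) ∧ IsPullback x f f₀ b ∧ IsPullback y g g₀ b ∧
      IsProper f₀ ∧ Flat f₀ ∧ LocallyOfFinitePresentation f₀ ∧ IsProper g₀ ∧ Flat g₀ ∧
      LocallyOfFinitePresentation g₀ ∧ CohB1.IsAmple L₀ ∧ CohB1.IsAmple M₀ ∧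
      ∀ x, FlatMor.fibreDimAt f₀ x ≤ 1 := by
  have i1 : ∀ i, CompactSpace ((specDiagram A).obj i) := fun i => inferInstance
  have i2 : ∀ i, QuasiSeparatedSpace ((specDiagram A).obj i) := fun i => inferInstance
  have i3 : LocallyOfFinitePresentation (Y := (specCone A).pt) f := ‹_›
  have i4 : IsProper (Y := (specCone A).pt) f := ‹_›
  have i5 : Flat (Y := (specCone A).pt) f := ‹_›
  have i3' : LocallyOfFinitePresentation (Y := (specCone A).pt) g := ‹_›
  have i4' : IsProper (Y := (specCone A).pt) g := ‹_›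
  have i5' : Flat (Y := (specCone A).pt) g := ‹_›
  obtain ⟨k, X₀, Y₀, f₀, g₀, x, y, L₀, M₀, h⟩ := exists_pair_model' (D := specDiagram A) (c := specCone A)
    (isLimitSpecCone A) f g hL hM hdim
  refine ⟨(specDiagram A).obj k, X₀, Y₀, (specCone A).π.app k, f₀, g₀, x, y, L₀, M₀, inferInstance, inferInstance,
    ?_, h⟩
  have hk := (Subalgebra.fg_iff_finiteType _).1 k.unop.2
  let e : ℤ →+* ULift.{u} ℤ := ULift.ringEquiv.symm.toRingHom
  have : (specULiftZIsTerminal.from ((specDiagram A).obj k)) =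
      Spec.map (CommRingCat.ofHom ((algebraMap ℤ k.unop.1).comp ULift.ringEquiv.toRingHom)) :=
    specULiftZIsTerminal.hom_ext _ _
  rw [this]
  refine (HasRingHomProperty.Spec_iff (P := @LocallyOfFiniteType)).2 ?_
  refine RingHom.FiniteType.comp ?_ ?_
  · exact RingHom.finiteType_algebraMap.2 hk
  · exact RingHom.FiniteType.of_surjective _ (ULift.ringEquiv (R := ℤ)).surjective

end spec

section nbhd

open K740.Emb

/-- **Isomorphisms of polarised families of curves, locally on the base.** -/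
theorem exists_isIsom_nbhd_Spec (A : Type u) [CommRing A] {X Y : Scheme.{u}} (f : X ⟶ Spec (CommRingCat.of A))
    (g : Y ⟶ Spec (CommRingCat.of A)) [IsProper f] [Flat f] [LocallyOfFinitePresentation f] [IsProper g] [Flat g]
    [LocallyOfFinitePresentation g] {L : X.Modules} (hL : CohB1.IsAmple L) {M : Y.Modules} (hM : CohB1.IsAmple M)
    (hdim : ∀ x, FlatMor.fibreDimAt f x ≤ 1) (z : Spec (CommRingCat.of A)) :
    ∃ (U : Scheme.{u}) (j : U ⟶ Spec (CommRingCat.of A)), IsOpenImmersion j ∧ IsAffine U ∧ z ∈ Set.range j ∧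
      ∀ (X' Y' : Scheme.{u}) (f' : X' ⟶ U) (g' : Y' ⟶ U) (x' : X' ⟶ X) (y' : Y' ⟶ Y), IsPullback x' f' f j →
        IsPullback y' g' g j → ∃ (W V : Scheme.{u}) (w : W ⟶ U) (p : V ⟶ W) (a : V ⟶ X') (b : V ⟶ Y'),
        LocallyOfFinitePresentation w ∧ QuasiCompact w ∧ IsSeparated w ∧ IsIsom f' g' w p a b := by
  obtain ⟨T₀, X₀, Y₀, t, f₀, g₀, x, y, L₀, M₀, h1, h2, h3, sx, sy, h4, h5, h6, h7, h8, h9, h10, h11, h12⟩ :=
    exists_pair_model A f g hL hM hdim
  obtain ⟨V₀, j₀, hj₀, hz, hV1, hV2, hV3⟩ := K903.PtModel.exists_connected_nbhd T₀ (t z)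
  have s₁ := IsPullback.of_hasPullback f₀ j₀
  have s₂ := IsPullback.of_hasPullback g₀ j₀
  have l₀ : LocallyOfFiniteType (specULiftZIsTerminal.from V₀) := by
    rw [show specULiftZIsTerminal.from V₀ = j₀ ≫ specULiftZIsTerminal.from T₀ from specULiftZIsTerminal.hom_ext _ _]
    infer_instance
  have ha : IsAffineHom j₀ := by
    infer_instance
  have ha₁ : IsAffineHom (pullback.fst f₀ j₀) := MorphismProperty.pullback_fst _ _ inferInstance
  have ha₂ : IsAffineHom (pullback.fst g₀ j₀) := MorphismProperty.pullback_fst _ _ inferInstance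
  obtain ⟨W, V, w, p, a, b, w1, w2, w3, hW⟩ := exists_isIsom_base (pullback.snd f₀ j₀) (pullback.snd g₀ j₀)
    (fun K _ s => K903.PtModel.dim_le_of_fibreDimAt (pullback.snd _ s)
      (fibreDimAt_le_bc (IsPullback.of_hasPullback _ s) (fibreDimAt_le_bc s₁ h12)))
    (Groth.Agent.Flat2H.FamOpen.isAmple_pullback_of_isAffineHom (pullback.fst f₀ j₀) h10)
    (Groth.Agent.Flat2H.FamOpen.isAmple_pullback_of_isAffineHom (pullback.fst g₀ j₀) h11)
  have sU := IsPullback.of_hasPullback t j₀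
  obtain ⟨z', hz'⟩ := hz
  refine ⟨pullback t j₀, pullback.fst t j₀, inferInstance, inferInstance, ?_, ?_⟩
  · obtain ⟨y, hy1, -⟩ := Scheme.Pullback.exists_preimage_pullback z z' hz'.symm
    exact ⟨y, hy1⟩
  · intro X' Y' f' g' x' y' sf sg
    have ef : (x' ≫ x) ≫ f₀ = (f' ≫ pullback.snd t j₀) ≫ j₀ := by
      rw [Category.assoc, sx.w, sf.w_assoc, sU.w, Category.assoc]
    have eg : (y' ≫ y) ≫ g₀ = (g' ≫ pullback.snd t j₀) ≫ j₀ := by
      rw [Category.assoc, sy.w, sg.w_assoc, sU.w, Category.assoc]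
    have q₁ : IsPullback (s₁.lift _ _ ef) f' (pullback.snd f₀ j₀) (pullback.snd t j₀) := by
      refine IsPullback.of_right (h₁₂ := pullback.fst f₀ j₀) (v₁₃ := f₀) (h₂₂ := j₀) ?_ (s₁.lift_snd _ _ _) s₁
      rw [s₁.lift_fst, ← sU.w]
      exact sf.paste_horiz sx
    have q₂ : IsPullback (s₂.lift _ _ eg) g' (pullback.snd g₀ j₀) (pullback.snd t j₀) := by
      refine IsPullback.of_right (h₁₂ := pullback.fst g₀ j₀) (v₁₃ := g₀) (h₂₂ := j₀) ?_ (s₂.lift_snd _ _ _) s₂
      rw [s₂.lift_fst, ← sU.w]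
      exact sg.paste_horiz sy
    obtain ⟨V', p', a', b', h⟩ := hW.bc q₁ q₂ (IsPullback.of_hasPullback w (pullback.snd t j₀))
    exact ⟨_, V', pullback.snd w (pullback.snd t j₀), p', a', b', inferInstance, inferInstance, inferInstance, h⟩

end nbhd

section general

/-- **Isomorphisms of polarised families of curves near a point of any scheme.** -/
theorem exists_isIsom_nbhd {S X Y : Scheme.{u}} (f : X ⟶ S) (g : Y ⟶ S) [IsProper f] [Flat f]
    [LocallyOfFinitePresentation f] [IsProper g] [Flat g] [LocallyOfFinitePresentation g]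
    (hdim : ∀ x, FlatMor.fibreDimAt f x ≤ 1) (z : S) {U₀ X₀ Y₀ : Scheme.{u}} {j₀ : U₀ ⟶ S} {x₀ : X₀ ⟶ X}
    {y₀ : Y₀ ⟶ Y} {f₀ : X₀ ⟶ U₀} {g₀ : Y₀ ⟶ U₀} [IsOpenImmersion j₀] [IsAffine U₀] (hz : z ∈ Set.range j₀)
    (sx : IsPullback x₀ f₀ f j₀) (sy : IsPullback y₀ g₀ g j₀)
    {L : X₀.Modules} (hL : CohB1.IsAmple L) {M : Y₀.Modules} (hM : CohB1.IsAmple M) :
    ∃ (U : Scheme.{u}) (j : U ⟶ S), IsOpenImmersion j ∧ IsAffine U ∧ z ∈ Set.range j ∧
      ∀ (X' Y' : Scheme.{u}) (f' : X' ⟶ U) (g' : Y' ⟶ U) (x' : X' ⟶ X) (y' : Y' ⟶ Y), IsPullback x' f' f j →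
        IsPullback y' g' g j → ∃ (W V : Scheme.{u}) (w : W ⟶ U) (p : V ⟶ W) (a : V ⟶ X') (b : V ⟶ Y'),
        LocallyOfFinitePresentation w ∧ QuasiCompact w ∧ IsSeparated w ∧ IsIsom f' g' w p a b := by
  obtain ⟨u, rfl⟩ := hz
  let A : Type u := Γ(U₀, ⊤)
  let e : U₀ ≅ Spec (CommRingCat.of A) := U₀.isoSpec
  have se₁ : IsPullback (𝟙 X₀) (f₀ ≫ e.hom) f₀ e.inv := IsPullback.of_horiz_isIso ⟨by simp⟩
  have se₂ : IsPullback (𝟙 Y₀) (g₀ ≫ e.hom) g₀ e.inv := IsPullback.of_horiz_isIso ⟨by simp⟩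
  have t₁ : IsPullback x₀ (f₀ ≫ e.hom) f (e.inv ≫ j₀) := by
    have := se₁.paste_horiz sx
    rwa [Category.id_comp] at this
  have t₂ : IsPullback y₀ (g₀ ≫ e.hom) g (e.inv ≫ j₀) := by
    have := se₂.paste_horiz sy
    rwa [Category.id_comp] at this
  have p1 : IsProper (f₀ ≫ e.hom) := MorphismProperty.of_isPullback (P := @IsProper) t₁ inferInstance
  have p2 : Flat (f₀ ≫ e.hom) := MorphismProperty.of_isPullback (P := @Flat) t₁ inferInstance
  have p3 : LocallyOfFinitePresentation (f₀ ≫ e.hom) :=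
    MorphismProperty.of_isPullback (P := @LocallyOfFinitePresentation) t₁ inferInstance
  have p1' : IsProper (g₀ ≫ e.hom) := MorphismProperty.of_isPullback (P := @IsProper) t₂ inferInstance
  have p2' : Flat (g₀ ≫ e.hom) := MorphismProperty.of_isPullback (P := @Flat) t₂ inferInstance
  have p3' : LocallyOfFinitePresentation (g₀ ≫ e.hom) :=
    MorphismProperty.of_isPullback (P := @LocallyOfFinitePresentation) t₂ inferInstance
  obtain ⟨U, j, hj, hU, ⟨v, hv⟩, H⟩ := exists_isIsom_nbhd_Spec A (f₀ ≫ e.hom) (g₀ ≫ e.hom) hL hM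
    (K740.Emb.fibreDimAt_le_bc t₁ hdim) (e.hom u)
  refine ⟨U, j ≫ e.inv ≫ j₀, inferInstance, hU, ⟨v, ?_⟩, ?_⟩
  · rw [Scheme.Hom.comp_apply, hv, ← Scheme.Hom.comp_apply, e.hom_inv_id_assoc]
  · intro X' Y' f' g' x' y' q₁ q₂
    have r₁ : IsPullback (t₁.lift x' (f' ≫ j) (by rw [q₁.w, Category.assoc])) f' (f₀ ≫ e.hom) j := by
      refine IsPullback.of_right (h₁₂ := x₀) (v₁₃ := f) (h₂₂ := e.inv ≫ j₀) ?_ (t₁.lift_snd _ _ _) t₁
      rw [t₁.lift_fst]
      exact q₁
    have r₂ : IsPullback (t₂.lift y' (g' ≫ j) (by rw [q₂.w, Category.assoc])) g' (g₀ ≫ e.hom) j := by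
      refine IsPullback.of_right (h₁₂ := y₀) (v₁₃ := g) (h₂₂ := e.inv ≫ j₀) ?_ (t₂.lift_snd _ _ _) t₂
      rw [t₂.lift_fst]
      exact q₂
    exact H X' Y' f' g' _ _ r₁ r₂

end general

end K996.CurvIso
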