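import Groth.Agent.Pi1A.FGLimit
import Groth.Agent.S4788
import Groth.Agent.S4790
import Groth.Agent.CohqA.HBiprod
import Groth.Agent.Desc.FPSections
import Groth.Agent.Smoothlim.FPMod
import Groth.Agent.PerfA.QCohSerre
import Groth.Agent.FormalA.PullbackQC
import Mathlib.AlgebraicGeometry.AlgClosed.Basic

/-!
# Decompositions of modules descend along extensions of an algebraically closed field

* `isFP_biproduct`, `isFP_of_retract`, `isQCoh_of_retract`, `pullbackBiproduct`.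
* `exists_decomposition`: a decomposition `F_K ≅ ⨁ L'_j` over `X_K` with prescribed isomorphism types of the
  pull-backs of the `L'_j` to schemes `P_m` over `X` (the types being defined over `Ω`) exists already over `Ω`.
-/

set_option autoImplicit false
universe u
open CategoryTheory CategoryTheory.Limits AlgebraicGeometry TopologicalSpace Opposite

namespace K996.Spread

open Groth.Agent

section Modules

variable {X : Scheme.{u}}

attribute [local instance] Abelian.hasFiniteBiproducts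

/-- The sections of a finite direct sum. -/
noncomputable def secEquiv {J : Type} [Finite J] (F : J → X.Modules) (V : X.Opens) :
    Γ(⨁ F, V) ≃ₗ[Γ(X, V)] (∀ j, Γ(F j, V)) := by
  classical
  letI := Fintype.ofFinite J
  refine LinearEquiv.ofBijective
    { toFun := fun x j => (biproduct.π F j).app V x
      map_add' := fun x y => by ext j; simp
      map_smul' := fun a x => by
        ext j
        simp [Scheme.Modules.Hom.app_smul] } ⟨?_, ?_⟩
  · intro x y hxy
    rw [CohqA.HBiprod.eq_sum F V x, CohqA.HBiprod.eq_sum F V y]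
    refine Finset.sum_congr rfl fun j _ => ?_
    rw [show (biproduct.π F j).app V x = (biproduct.π F j).app V y from congrFun hxy j]
  · intro y
    refine ⟨∑ j, (biproduct.ι F j).app V (y j), ?_⟩
    ext j
    change (biproduct.π F j).app V (∑ j, (biproduct.ι F j).app V (y j)) = y j
    rw [map_sum, Finset.sum_eq_single j]
    · have h := congr_arg (fun t => Scheme.Modules.Hom.app t V (y j)) (biproduct.ι_π_self F j)
      exact h
    · intro k _ hk
      have h := congr_arg (fun t => Scheme.Modules.Hom.app t V (y k)) (biproduct.ι_π_ne F hk)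
      exact h
    · intro h
      exact absurd (Finset.mem_univ j) h

theorem isFP_biproduct {J : Type} [Finite J] (F : J → X.Modules) (hq : ∀ j, Coh.IsQCoh (F j))
    (h : ∀ j, CohB1.IsFP (F j)) : CohB1.IsFP (⨁ F) := by
  rw [Desc.FPSections.isFP_iff_sections (CohqA.HBiprod.isQCoh_biproduct F hq)]
  intro V hV
  have : ∀ j, Module.FinitePresentation Γ(X, V) Γ(F j, V) := fun j =>
    (Desc.FPSections.isFP_iff_sections (hq j)).1 (h j) V hV
  exact Module.FinitePresentation.of_equiv (secEquiv F V).symm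

/-- A retract is a cokernel. -/
noncomputable def retractIso {C : Type*} [Category C] [Preadditive C] [HasCokernels C] {A B : C} (s : A ⟶ B) (r : B ⟶ A)
    (h : s ≫ r = 𝟙 A) : cokernel (𝟙 B - r ≫ s) ≅ A where
  hom := cokernel.desc _ r (by rw [Preadditive.sub_comp, Category.id_comp, Category.assoc, h, Category.comp_id, sub_self])
  inv := s ≫ cokernel.π _
  hom_inv_id := by
    rw [← cancel_epi (cokernel.π (𝟙 B - r ≫ s)), cokernel.π_desc_assoc, Category.comp_id]
    have h2 := cokernel.condition (𝟙 B - r ≫ s)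
    rw [Preadditive.sub_comp, Category.id_comp, sub_eq_zero] at h2
    rw [← Category.assoc]
    exact h2.symm
  inv_hom_id := by rw [Category.assoc, cokernel.π_desc, h]

theorem isFP_of_retract {A B : X.Modules} (s : A ⟶ B) (r : B ⟶ A) (h : s ≫ r = 𝟙 A) (hB : CohB1.IsFP B) :
    CohB1.IsFP A :=
  Smoothlim.FPMod.isFP_of_iso (retractIso s r h) (Smoothlim.FPMod.isFP_cokernel _ hB hB)

theorem isQCoh_of_retract {A B : X.Modules} (s : A ⟶ B) (r : B ⟶ A) (h : s ≫ r = 𝟙 A) (hB : Coh.IsQCoh B) :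
    Coh.IsQCoh A :=
  PerfA.QCohSerre.isQCoh_of_iso (retractIso s r h) (PerfA.QCohSerre.isQCoh_cokernel _ hB hB)

theorem isFP_summand {J : Type} [Finite J] (F : J → X.Modules) {B : X.Modules} (e : B ≅ ⨁ F)
    (hB : CohB1.IsFP B) (j : J) : CohB1.IsFP (F j) :=
  isFP_of_retract (biproduct.ι F j ≫ e.inv) (e.hom ≫ biproduct.π F j) (by simp) hB

theorem isQCoh_summand {J : Type} [Finite J] (F : J → X.Modules) {B : X.Modules} (e : B ≅ ⨁ F)
    (hB : Coh.IsQCoh B) (j : J) : Coh.IsQCoh (F j) :=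
  isQCoh_of_retract (biproduct.ι F j ≫ e.inv) (e.hom ≫ biproduct.π F j) (by simp) hB

instance additive_pullback {Y : Scheme.{u}} (f : Y ⟶ X) : (Scheme.Modules.pullback f).Additive := by
  have := (Scheme.Modules.pullbackPushforwardAdjunction f).isLeftAdjoint
  exact Functor.additive_of_preserves_binary_products _

/-- Pull-back commutes with finite direct sums. -/
noncomputable def pullbackBiproduct {Y : Scheme.{u}} (f : Y ⟶ X) {J : Type} [Finite J] (F : J → X.Modules) :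
    (Scheme.Modules.pullback f).obj (⨁ F) ≅ ⨁ fun j => (Scheme.Modules.pullback f).obj (F j) :=
  (Scheme.Modules.pullback f).mapBiproduct F

/-- Composite pull-back. -/
noncomputable def pbComp {Y Z : Scheme.{u}} (a : Z ⟶ Y) (b : Y ⟶ X) (c : Z ⟶ X) (h : a ≫ b = c) (M : X.Modules) :
    (Scheme.Modules.pullback a).obj ((Scheme.Modules.pullback b).obj M) ≅ (Scheme.Modules.pullback c).obj M :=
  (Scheme.Modules.pullbackComp a b).app M ≪≫ (Scheme.Modules.pullbackCongr h).app M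

theorem isFP_pull {Y : Scheme.{u}} (f : Y ⟶ X) {M : X.Modules} (hM : CohB1.IsFP M) :
    CohB1.IsFP ((Scheme.Modules.pullback f).obj M) :=
  FormalA.PullbackQC.isFP_pullback f M hM

theorem isQCoh_pull {Y : Scheme.{u}} (f : Y ⟶ X) {M : X.Modules} (hM : Coh.IsQCoh M) :
    Coh.IsQCoh ((Scheme.Modules.pullback f).obj M) :=
  FormalA.PullbackQC.isQCoh_pullback f M hM

end Modules

section Stage

open Groth.Agent.Pi1A.FGLimit

variable (Ω K : Type u) [Field Ω] [CommRing K] [Algebra Ω K]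

/-- The stage `X ×_Ω A` for a finitely generated subalgebra `A` of `K`. -/
noncomputable abbrev St {X : Scheme.{u}} (f : X ⟶ Spec (CommRingCat.of Ω)) (F : (Finset K)ᵒᵖ) : Scheme.{u} :=
  (diag Ω K f).obj F

noncomputable def stFst {X : Scheme.{u}} (f : X ⟶ Spec (CommRingCat.of Ω)) (F : (Finset K)ᵒᵖ) : St Ω K f F ⟶ X :=
  pbFst (specDiag Ω K) (specBase Ω K) f F

noncomputable def stSnd {X : Scheme.{u}} (f : X ⟶ Spec (CommRingCat.of Ω)) (F : (Finset K)ᵒᵖ) :
    St Ω K f F ⟶ (specDiag Ω K).obj F :=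
  pbSnd (specDiag Ω K) (specBase Ω K) f F

noncomputable def stBase (F : (Finset K)ᵒᵖ) : (specDiag Ω K).obj F ⟶ Spec (CommRingCat.of Ω) :=
  (specBase Ω K).app F

/-- The limit `X ×_Ω K`. -/
noncomputable abbrev Li {X : Scheme.{u}} (f : X ⟶ Spec (CommRingCat.of Ω)) : Scheme.{u} :=
  (cone Ω K f).pt

noncomputable def liFst {X : Scheme.{u}} (f : X ⟶ Spec (CommRingCat.of Ω)) : Li Ω K f ⟶ X :=
  pullback.fst f (toBase Ω K)

noncomputable def liSnd {X : Scheme.{u}} (f : X ⟶ Spec (CommRingCat.of Ω)) : Li Ω K f ⟶ Spec (CommRingCat.of K) :=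
  pullback.snd f (toBase Ω K)

noncomputable def coPr (F : (Finset K)ᵒᵖ) : Spec (CommRingCat.of K) ⟶ (specDiag Ω K).obj F :=
  (specCone Ω K).π.app F

noncomputable def liPr {X : Scheme.{u}} (f : X ⟶ Spec (CommRingCat.of Ω)) (F : (Finset K)ᵒᵖ) :
    Li Ω K f ⟶ St Ω K f F :=
  (cone Ω K f).π.app F

variable {X P : Scheme.{u}} (f : X ⟶ Spec (CommRingCat.of Ω)) (l : P ⟶ X) (p : P ⟶ Spec (CommRingCat.of Ω))
  (h : l ≫ f = p)

theorem st_isPullback (F : (Finset K)ᵒᵖ) : IsPullback (stFst Ω K f F) (stSnd Ω K f F) f (stBase Ω K F) :=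
  pb_isPullback _ _ _ _

theorem li_isPullback : IsPullback (liFst Ω K f) (liSnd Ω K f) f (toBase Ω K) :=
  IsPullback.of_hasPullback _ _

theorem liPr_fst (F : (Finset K)ᵒᵖ) : liPr Ω K f F ≫ stFst Ω K f F = liFst Ω K f :=
  pbCone_fst (specDiag Ω K) (specBase Ω K) f (specCone Ω K) (toBase Ω K) (specCone_base Ω K) F

theorem liPr_snd (F : (Finset K)ᵒᵖ) : liPr Ω K f F ≫ stSnd Ω K f F = liSnd Ω K f ≫ coPr Ω K F :=
  pbCone_snd (specDiag Ω K) (specBase Ω K) f (specCone Ω K) (toBase Ω K) (specCone_base Ω K) F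

theorem map_stFst {F G : (Finset K)ᵒᵖ} (φ : F ⟶ G) : (diag Ω K f).map φ ≫ stFst Ω K f G = stFst Ω K f F :=
  pbDiag_map_fst _ _ _ _

theorem map_stSnd {F G : (Finset K)ᵒᵖ} (φ : F ⟶ G) :
    (diag Ω K f).map φ ≫ stSnd Ω K f G = stSnd Ω K f F ≫ (specDiag Ω K).map φ :=
  pbDiag_map_snd _ _ _ _

theorem liPr_map {F G : (Finset K)ᵒᵖ} (φ : F ⟶ G) : liPr Ω K f F ≫ (diag Ω K f).map φ = liPr Ω K f G :=
  (cone Ω K f).w φ

/-- The base change of `l` to a stage. -/
noncomputable def stMap (F : (Finset K)ᵒᵖ) : St Ω K p F ⟶ St Ω K f F :=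
  (st_isPullback Ω K f F).lift (stFst Ω K p F ≫ l) (stSnd Ω K p F)
    (by rw [Category.assoc, h, (st_isPullback Ω K p F).w])

theorem stMap_fst (F : (Finset K)ᵒᵖ) : stMap Ω K f l p h F ≫ stFst Ω K f F = stFst Ω K p F ≫ l :=
  IsPullback.lift_fst _ _ _ _

theorem stMap_snd (F : (Finset K)ᵒᵖ) : stMap Ω K f l p h F ≫ stSnd Ω K f F = stSnd Ω K p F :=
  IsPullback.lift_snd _ _ _ _

theorem stMap_nat {F G : (Finset K)ᵒᵖ} (φ : F ⟶ G) :
    (diag Ω K p).map φ ≫ stMap Ω K f l p h G = stMap Ω K f l p h F ≫ (diag Ω K f).map φ := by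
  apply (st_isPullback Ω K f G).hom_ext
  · rw [Category.assoc, stMap_fst, ← Category.assoc, map_stFst, Category.assoc, map_stFst, stMap_fst]
  · rw [Category.assoc, stMap_snd, map_stSnd, Category.assoc, map_stSnd, ← Category.assoc, stMap_snd]

/-- The base change of `l` to `K`. -/
noncomputable def liMap : Li Ω K p ⟶ Li Ω K f :=
  (li_isPullback Ω K f).lift (liFst Ω K p ≫ l) (liSnd Ω K p)
    (by rw [Category.assoc, h, (li_isPullback Ω K p).w])

theorem liMap_fst : liMap Ω K f l p h ≫ liFst Ω K f = liFst Ω K p ≫ l := IsPullback.lift_fst _ _ _ _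

theorem liMap_snd : liMap Ω K f l p h ≫ liSnd Ω K f = liSnd Ω K p := IsPullback.lift_snd _ _ _ _

theorem liMap_nat (F : (Finset K)ᵒᵖ) :
    liPr Ω K p F ≫ stMap Ω K f l p h F = liMap Ω K f l p h ≫ liPr Ω K f F := by
  apply (st_isPullback Ω K f F).hom_ext
  · rw [Category.assoc, stMap_fst, ← Category.assoc, liPr_fst, Category.assoc, liPr_fst, liMap_fst]
  · rw [Category.assoc, stMap_snd, liPr_snd, Category.assoc, liPr_snd, ← Category.assoc, liMap_snd]

variable {F : (Finset K)ᵒᵖ} (s : Spec (CommRingCat.of Ω) ⟶ (specDiag Ω K).obj F) (hs : s ≫ stBase Ω K F = 𝟙 _)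

/-- The section of a stage defined by a rational point. -/
noncomputable def sec : X ⟶ St Ω K f F :=
  (st_isPullback Ω K f F).lift (𝟙 X) (f ≫ s) (by rw [Category.assoc, hs, Category.id_comp, Category.comp_id])

theorem sec_fst : sec Ω K f s hs ≫ stFst Ω K f F = 𝟙 X := IsPullback.lift_fst _ _ _ _

theorem sec_snd : sec Ω K f s hs ≫ stSnd Ω K f F = f ≫ s := IsPullback.lift_snd _ _ _ _

theorem sec_nat : l ≫ sec Ω K f s hs = sec Ω K p s hs ≫ stMap Ω K f l p h F := by
  apply (st_isPullback Ω K f F).hom_ext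
  · rw [Category.assoc, Category.assoc, sec_fst, stMap_fst, ← Category.assoc, sec_fst, Category.comp_id,
      Category.id_comp]
  · rw [Category.assoc, Category.assoc, sec_snd, stMap_snd, sec_snd, ← Category.assoc, h]

/-- Every stage has a rational point. -/
theorem exists_point [IsAlgClosed Ω] [Nontrivial K] (F : (Finset K)ᵒᵖ) :
    ∃ s : Spec (CommRingCat.of Ω) ⟶ (specDiag Ω K).obj F, s ≫ stBase Ω K F = 𝟙 _ := by
  have hA : Algebra.FiniteType Ω (Algebra.adjoin Ω (F.unop : Set K)) := by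
    rw [← Subalgebra.fg_iff_finiteType]
    exact ⟨F.unop, rfl⟩
  have hft : LocallyOfFiniteType (stBase Ω K F) := by
    change LocallyOfFiniteType (Spec.map (CommRingCat.ofHom (algebraMap Ω (Algebra.adjoin Ω (F.unop : Set K)))))
    rw [HasRingHomProperty.Spec_iff (P := @LocallyOfFiniteType)]
    exact RingHom.finiteType_algebraMap.mpr hA
  obtain ⟨m, hm⟩ := Ideal.exists_maximal (Algebra.adjoin Ω (F.unop : Set K))
  have hcl : IsClosed ({⟨m, hm.isPrime⟩} : Set (PrimeSpectrum (Algebra.adjoin Ω (F.unop : Set K)))) := by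
    rw [PrimeSpectrum.isClosed_singleton_iff_isMaximal]
    exact hm
  exact ⟨pointOfClosedPoint (stBase Ω K F) ⟨m, hm.isPrime⟩ hcl, pointOfClosedPoint_comp _ _ _⟩

variable [QuasiCompact f] [QuasiSeparated f]

attribute [local instance] Abelian.hasFiniteBiproducts

/-- A finitely presented module over `X_K` comes from a stage. -/
theorem exists_stage (M : (Li Ω K f).Modules) (hq : Coh.IsQCoh M) (hM : CohB1.IsFP M) :
    ∃ (F : (Finset K)ᵒᵖ) (N : (St Ω K f F).Modules), Coh.IsQCoh N ∧ CohB1.IsFP N ∧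
      Nonempty ((Scheme.Modules.pullback (liPr Ω K f F)).obj N ≅ M) := by
  obtain ⟨F, -, N, h1, h2, h3⟩ := Groth.Agent.S4788.result (diag Ω K f) (cone Ω K f) (isLimit Ω K f)
    (op ∅) M hM
  exact ⟨F, N, h1, h2, h3⟩

/-- An isomorphism over `X_K` exists at a later stage. -/
theorem exists_iso_stage (F : (Finset K)ᵒᵖ) (M N : (St Ω K f F).Modules) (hM : Coh.IsQCoh M) (hM' : CohB1.IsFP M)
    (hN : Coh.IsQCoh N) (hN' : CohB1.IsFP N)
    (e : Nonempty ((Scheme.Modules.pullback (liPr Ω K f F)).obj M ≅ (Scheme.Modules.pullback (liPr Ω K f F)).obj N)) :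
    ∃ (G : (Finset K)ᵒᵖ) (φ : G ⟶ F), Nonempty ((Scheme.Modules.pullback ((diag Ω K f).map φ)).obj M ≅
      (Scheme.Modules.pullback ((diag Ω K f).map φ)).obj N) :=
  (Groth.Agent.S4790.result (diag Ω K f) (cone Ω K f) (isLimit Ω K f) F M N hM' hN').1 e

/-- Finitely many finitely presented modules over `X_K` come from one stage. -/
theorem exists_stage_fin {r : ℕ} (M : Fin r → (Li Ω K f).Modules) (hq : ∀ j, Coh.IsQCoh (M j))
    (hM : ∀ j, CohB1.IsFP (M j)) :
    ∃ (F : (Finset K)ᵒᵖ) (N : Fin r → (St Ω K f F).Modules), (∀ j, Coh.IsQCoh (N j)) ∧ (∀ j, CohB1.IsFP (N j)) ∧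
      ∀ j, Nonempty ((Scheme.Modules.pullback (liPr Ω K f F)).obj (N j) ≅ M j) := by
  choose F N h1 h2 h3 using fun j => exists_stage Ω K f (M j) (hq j) (hM j)
  classical
  let G : (Finset K)ᵒᵖ := op (Finset.univ.sup fun j => (F j).unop)
  have φ : ∀ j, G ⟶ F j := fun j => (homOfLE (Finset.le_sup (f := fun j => (F j).unop) (Finset.mem_univ j))).op
  refine ⟨G, fun j => (Scheme.Modules.pullback ((diag Ω K f).map (φ j))).obj (N j), fun j => isQCoh_pull _ (h1 j),
    fun j => isFP_pull _ (h2 j), fun j => ?_⟩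
  exact ⟨pbComp _ _ _ (liPr_map Ω K f (φ j)) _ ≪≫ (h3 j).some⟩

end Stage

section Main

open Groth.Agent.Pi1A.FGLimit

attribute [local instance] Abelian.hasFiniteBiproducts

variable (Ω K : Type u) [Field Ω] [CommRing K] [Algebra Ω K] {X P : Scheme.{u}}
  (f : X ⟶ Spec (CommRingCat.of Ω)) (l : P ⟶ X) (p : P ⟶ Spec (CommRingCat.of Ω)) (h : l ≫ f = p)

/-- Transport of an isomorphism of pull-backs to a later stage. -/
theorem iso_later {F G H : (Finset K)ᵒᵖ} (φ : G ⟶ F) (ψ : H ⟶ G) (χ : H ⟶ F) {M N : (St Ω K f F).Modules}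
    (e : Nonempty ((Scheme.Modules.pullback ((diag Ω K f).map φ)).obj M ≅
      (Scheme.Modules.pullback ((diag Ω K f).map φ)).obj N)) :
    Nonempty ((Scheme.Modules.pullback ((diag Ω K f).map χ)).obj M ≅
      (Scheme.Modules.pullback ((diag Ω K f).map χ)).obj N) := by
  obtain ⟨e⟩ := e
  have h : (diag Ω K f).map ψ ≫ (diag Ω K f).map φ = (diag Ω K f).map χ := by
    rw [← (diag Ω K f).map_comp]
    exact congrArg _ (Subsingleton.elim _ _)
  exact ⟨(pbComp _ _ _ h M).symm ≪≫ (Scheme.Modules.pullback ((diag Ω K f).map ψ)).mapIso e ≪≫ pbComp _ _ _ h N⟩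

/-- The pull-back to the special fibre at a rational point of a later stage. -/
noncomputable def spz {F H : (Finset K)ᵒᵖ} (χ : H ⟶ F) (s : Spec (CommRingCat.of Ω) ⟶ (specDiag Ω K).obj H)
    (hs : s ≫ stBase Ω K H = 𝟙 _) : X ⟶ St Ω K f F :=
  sec Ω K f s hs ≫ (diag Ω K f).map χ

variable {F H : (Finset K)ᵒᵖ} (χ : H ⟶ F) (s : Spec (CommRingCat.of Ω) ⟶ (specDiag Ω K).obj H)
    (hs : s ≫ stBase Ω K H = 𝟙 _)

theorem spz_iso {M N : (St Ω K f F).Modules}
    (e : Nonempty ((Scheme.Modules.pullback ((diag Ω K f).map χ)).obj M ≅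
      (Scheme.Modules.pullback ((diag Ω K f).map χ)).obj N)) :
    Nonempty ((Scheme.Modules.pullback (spz Ω K f χ s hs)).obj M ≅
      (Scheme.Modules.pullback (spz Ω K f χ s hs)).obj N) := by
  obtain ⟨e⟩ := e
  exact ⟨(pbComp _ _ (spz Ω K f χ s hs) rfl M).symm ≪≫
    (Scheme.Modules.pullback (sec Ω K f s hs)).mapIso e ≪≫ pbComp _ _ (spz Ω K f χ s hs) rfl N⟩

theorem spz_fst : spz Ω K f χ s hs ≫ stFst Ω K f F = 𝟙 X := by
  unfold spz
  rw [Category.assoc, map_stFst, sec_fst]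

theorem spz_nat : l ≫ spz Ω K f χ s hs = spz Ω K p χ s hs ≫ stMap Ω K f l p h F := by
  unfold spz
  rw [Category.assoc, stMap_nat, ← Category.assoc, ← Category.assoc, sec_nat]

theorem spz_pull (M : X.Modules) :
    Nonempty (M ≅ (Scheme.Modules.pullback (spz Ω K f χ s hs)).obj ((Scheme.Modules.pullback (stFst Ω K f F)).obj M)) :=
  ⟨(pbComp _ _ _ (spz_fst Ω K f χ s hs) M ≪≫ (Scheme.Modules.pullbackId X).app M).symm⟩

theorem spz_pull_map (N : (St Ω K f F).Modules) :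
    Nonempty ((Scheme.Modules.pullback l).obj ((Scheme.Modules.pullback (spz Ω K f χ s hs)).obj N) ≅
      (Scheme.Modules.pullback (spz Ω K p χ s hs)).obj
        ((Scheme.Modules.pullback (stMap Ω K f l p h F)).obj N)) :=
  ⟨pbComp _ _ _ (spz_nat Ω K f l p h χ s hs) N ≪≫ (pbComp _ _ _ rfl N).symm⟩

variable [QuasiCompact f] [QuasiSeparated f]

/-- The decomposition at a stage. -/
theorem stage_decomp {r : ℕ} (M : X.Modules) (hMq : Coh.IsQCoh M) (hM : CohB1.IsFP M)
    (L : Fin r → (Li Ω K f).Modules) (e : (Scheme.Modules.pullback (liFst Ω K f)).obj M ≅ ⨁ L)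
    (N : Fin r → (St Ω K f F).Modules) (hNq : ∀ j, Coh.IsQCoh (N j)) (hN : ∀ j, CohB1.IsFP (N j))
    (a : ∀ j, Nonempty ((Scheme.Modules.pullback (liPr Ω K f F)).obj (N j) ≅ L j)) :
    ∃ (G : (Finset K)ᵒᵖ) (φ : G ⟶ F), Nonempty ((Scheme.Modules.pullback ((diag Ω K f).map φ)).obj
        ((Scheme.Modules.pullback (stFst Ω K f F)).obj M) ≅
      (Scheme.Modules.pullback ((diag Ω K f).map φ)).obj (⨁ N)) := by
  refine exists_iso_stage Ω K f F _ _ (isQCoh_pull _ hMq) (isFP_pull _ hM)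
    (CohqA.HBiprod.isQCoh_biproduct N hNq) (isFP_biproduct N hNq hN) ?_
  exact ⟨pbComp _ _ _ (liPr_fst Ω K f F) M ≪≫ e ≪≫ (biproduct.mapIso fun j => (a j).some.symm) ≪≫
    (pullbackBiproduct _ N).symm⟩

omit [QuasiCompact f] [QuasiSeparated f] in
/-- The pull-back to `P` at a stage. -/
theorem stage_line [QuasiCompact p] [QuasiSeparated p] (G : P.Modules) (hGq : Coh.IsQCoh G) (hG : CohB1.IsFP G)
    (L : (Li Ω K f).Modules)
    (e' : Nonempty ((Scheme.Modules.pullback (liMap Ω K f l p h)).obj L ≅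
      (Scheme.Modules.pullback (liFst Ω K p)).obj G))
    (N : (St Ω K f F).Modules) (hNq : Coh.IsQCoh N) (hN : CohB1.IsFP N)
    (a : Nonempty ((Scheme.Modules.pullback (liPr Ω K f F)).obj N ≅ L)) :
    ∃ (G' : (Finset K)ᵒᵖ) (φ : G' ⟶ F), Nonempty ((Scheme.Modules.pullback ((diag Ω K p).map φ)).obj
        ((Scheme.Modules.pullback (stMap Ω K f l p h F)).obj N) ≅
      (Scheme.Modules.pullback ((diag Ω K p).map φ)).obj ((Scheme.Modules.pullback (stFst Ω K p F)).obj G)) := by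
  refine exists_iso_stage Ω K p F _ _ (isQCoh_pull _ hNq) (isFP_pull _ hN) (isQCoh_pull _ hGq) (isFP_pull _ hG) ?_
  exact ⟨pbComp _ _ _ (liMap_nat Ω K f l p h F) N ≪≫
      (pbComp _ _ _ rfl N).symm ≪≫ (Scheme.Modules.pullback _).mapIso a.some ≪≫
      e'.some ≪≫ (pbComp _ _ _ (liPr_fst Ω K p F) G).symm⟩

/-- Finitely many stages have a common successor. -/
theorem exists_common {ι : Type} [Finite ι] (G1 : (Finset K)ᵒᵖ) (G2 : ι → (Finset K)ᵒᵖ) :
    ∃ H : (Finset K)ᵒᵖ, Nonempty (H ⟶ G1) ∧ ∀ x, Nonempty (H ⟶ G2 x) := by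
  classical
  letI := Fintype.ofFinite ι
  exact ⟨op (G1.unop ∪ Finset.univ.sup fun x => (G2 x).unop), ⟨(homOfLE Finset.subset_union_left).op⟩, fun x =>
    ⟨(homOfLE ((Finset.le_sup (f := fun x => (G2 x).unop) (Finset.mem_univ x)).trans
      Finset.subset_union_right)).op⟩⟩

/-- Main lemma. -/
theorem exists_decomposition [IsAlgClosed Ω] [Nontrivial K] {r k : ℕ} (P : Fin k → Scheme.{u})
    (l : ∀ m, P m ⟶ X) (p : ∀ m, P m ⟶ Spec (CommRingCat.of Ω)) (h : ∀ m, l m ≫ f = p m)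
    (hp : ∀ m, QuasiCompact (p m)) (hp' : ∀ m, QuasiSeparated (p m))
    (M : X.Modules) (hMq : Coh.IsQCoh M) (hM : CohB1.IsFP M)
    (G : Fin r → ∀ m, (P m).Modules) (hGq : ∀ j m, Coh.IsQCoh (G j m)) (hG : ∀ j m, CohB1.IsFP (G j m))
    (L : Fin r → (Li Ω K f).Modules)
    (e : (Scheme.Modules.pullback (liFst Ω K f)).obj M ≅ ⨁ L)
    (e' : ∀ j m, Nonempty ((Scheme.Modules.pullback (liMap Ω K f (l m) (p m) (h m))).obj (L j) ≅
      (Scheme.Modules.pullback (liFst Ω K (p m))).obj (G j m))) :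
    ∃ N : Fin r → X.Modules, Nonempty (M ≅ ⨁ N) ∧
      ∀ j m, Nonempty ((Scheme.Modules.pullback (l m)).obj (N j) ≅ G j m) := by
  have hLq : ∀ j, Coh.IsQCoh (L j) := isQCoh_summand L e (isQCoh_pull _ hMq)
  have hL : ∀ j, CohB1.IsFP (L j) := isFP_summand L e (isFP_pull _ hM)
  obtain ⟨F, N, hNq, hN, a⟩ := exists_stage_fin Ω K f L hLq hL
  obtain ⟨G1, φ1, b1⟩ := stage_decomp Ω K f M hMq hM L e N hNq hN a
  choose G2 φ2 b2 using fun (x : Fin r × Fin k) => stage_line Ω K f (l x.2) (p x.2) (h x.2) (G x.1 x.2)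
    (hGq x.1 x.2) (hG x.1 x.2) (L x.1) (e' x.1 x.2) (N x.1) (hNq x.1) (hN x.1) (a x.1)
  obtain ⟨H, ⟨ψ1⟩, ψ2⟩ := exists_common K G1 G2
  obtain ⟨s, hs⟩ := exists_point Ω K H
  let χ : H ⟶ F := ψ1 ≫ φ1
  refine ⟨fun j => (Scheme.Modules.pullback (spz Ω K f χ s hs)).obj (N j), ?_, ?_⟩
  · obtain ⟨c⟩ := spz_iso Ω K f χ s hs (iso_later Ω K f φ1 ψ1 χ b1)
    exact ⟨(spz_pull Ω K f χ s hs M).some ≪≫ c ≪≫ pullbackBiproduct _ N⟩
  · intro j m
    obtain ⟨c⟩ := spz_iso Ω K (p m) χ s hs (iso_later Ω K (p m) (φ2 (j, m)) (ψ2 (j, m)).some χ (b2 (j, m)))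
    exact ⟨(spz_pull_map Ω K f (l m) (p m) (h m) χ s hs (N j)).some ≪≫ c ≪≫
      (spz_pull Ω K (p m) χ s hs (G j m)).some.symm⟩

end Main

end K996.Spread
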