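import Groth.Agent.VecBal.K996.ExtBal
import Groth.Agent.VecBal.K996.Spread
import Groth.Agent.Lefpen.H717.ProjIrr
import Groth.Agent.Ega3B.ProjTwist
import Groth.Agent.Ega3B.ProjProper
import Groth.Agent.Desc.FinLocFreeSections
import Groth.Agent.Models2.FibreFreeSch

/-!
# Extension of an algebraically closed base field: rational chains and admissible bundles
-/

set_option autoImplicit false
universe u
open CategoryTheory CategoryTheory.Limits AlgebraicGeometry TopologicalSpace

namespace K996.ExtGeom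

open Groth.Agent K996.Spread

variable {Ω Ω' : Type u} [Field Ω] [Field Ω'] [IsAlgClosed Ω]
  {φ : Ω →+* Ω'}
  {X X' : Scheme.{u}} {q : X ⟶ Spec (CommRingCat.of Ω)} {q' : X' ⟶ Spec (CommRingCat.of Ω')} {i : X' ⟶ X}

/-- The base change of a rational chain. -/
noncomputable def pbChain (hP : IsPullback i q' q (Spec.map (CommRingCat.ofHom φ))) [IsProper q]
    (hd : topologicalKrullDim X ≤ 1) {k : ℕ} (c : VecBal.RatChain Ω X q k) : VecBal.RatChain Ω' X' q' k :=
  have := noetherianSpace_of_proper q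
  have hr : ∀ m, Set.range (pbLine hP (c.e m) (c.comp_eq m)).base = i ⁻¹' (Set.range (c.e m).base) :=
    fun m => range_pbLine hP (c.e m) (c.comp_eq m)
  { e := fun m => pbLine hP (c.e m) (c.comp_eq m)
    isClosedImmersion := fun m => by
      have := c.isClosedImmersion m
      exact isClosedImmersion_pbLine hP (c.e m) (c.comp_eq m)
    comp_eq := fun m => pbLine_q hP _ _
    pos := c.pos
    mem_irreducibleComponents := fun m => by
      rw [hr]
      exact preimage_mem hP (c.mem_irreducibleComponents m)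
    encard_meetPts := fun m => by
      rw [hr, meetPts_preimage hP, encard_preimage hP fun x hx =>
        isClosed_of_mem_meetPts hd (c.mem_irreducibleComponents m) hx]
      exact c.encard_meetPts m
    line_injective := fun m n h => by
      rw [hr, hr] at h
      exact c.line_injective m n (preimage_injective hP h)
    encard_inter_succ := fun m n h => by
      rw [hr, hr, ← Set.preimage_inter, encard_preimage hP]
      · exact c.encard_inter_succ m n h
      · refine (finite_inter hd (c.mem_irreducibleComponents m) (c.mem_irreducibleComponents n) ?_).2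
        intro h2
        have h3 := c.line_injective m n h2
        subst h3
        omega
    inter_eq_empty := fun m n h => by
      rw [hr, hr, ← Set.preimage_inter, c.inter_eq_empty m n h, Set.preimage_empty] }

theorem isClosed_support {k : ℕ} (c : VecBal.Lines Ω X q k) : IsClosed c.support := by
  refine isClosed_iUnion_of_finite fun m => ?_
  have := c.isClosedImmersion m
  exact (c.e m).isClosedEmbedding.isClosed_range

theorem exists_factor_support {k : ℕ} (c : VecBal.Lines Ω X q k) (m : Fin k) :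
    ∃ l : CohB1.ProjSpace 1 Ω ⟶ VecSt.subsch X c.support (isClosed_support c),
      l ≫ VecSt.subschι X c.support (isClosed_support c) = c.e m := by
  refine Ega1.ReducedSub.exists_factor_of_range_subset _ _ ?_
  rw [Scheme.IdealSheafData.range_subschemeι]
  have h1 : ((Scheme.IdealSheafData.vanishingIdeal ⟨c.support, isClosed_support c⟩ :
    X.IdealSheafData).support : Set X) = c.support := by simp
  rw [h1]
  exact Set.subset_iUnion (fun m => Set.range (c.e m).base) m

/-- Splittings descend along extensions of algebraically closed fields. -/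
theorem hasDegMatrix_of_ext [Algebra Ω Ω'] (hP : IsPullback i q' q (Spec.map (CommRingCat.ofHom (algebraMap Ω Ω'))))
    [QuasiCompact q] [QuasiSeparated q]
    {k : ℕ} (c : VecBal.Lines Ω X q k) (c' : VecBal.Lines Ω' X' q' k)
    (hc : ∀ m, c'.e m = pbLine hP (c.e m) (c.comp_eq m)) {E : X.Modules} (hEq : Coh.IsQCoh E)
    (hE : CohB1.IsFP E) {r : ℕ} (a : Fin r → Fin k → ℤ)
    (h : VecBal.HasDegMatrix c' ((Scheme.Modules.pullback i).obj E) a) : VecBal.HasDegMatrix c E a := by
  obtain ⟨R₁, ι₁, hι₁, l₁, hl₁, L₁, ⟨u⟩, v⟩ := h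
  choose l hl using exists_factor_support c
  let R : Scheme.{u} := VecSt.subsch X c.support (isClosed_support c)
  let ι : R ⟶ X := VecSt.subschι X c.support (isClosed_support c)
  have hl : ∀ m, l m ≫ ι = c.e m := hl
  have hci : IsClosedImmersion ι := inferInstance
  have hred : IsReduced R := Ega1.ReducedSub.isReduced_subscheme_vanishingIdeal _
  let f : R ⟶ Spec (CommRingCat.of Ω) := ι ≫ q
  have hqc : QuasiCompact f := inferInstanceAs (QuasiCompact (ι ≫ q))
  have hqs : QuasiSeparated f := inferInstanceAs (QuasiSeparated (ι ≫ q))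
  have hgr : GeometricallyReduced f := Sga3C.GeomRedPerf.geometricallyReduced_of_isReduced _
  have hredK : IsReduced (Li Ω Ω' f) :=
    GeometricallyReduced.geometrically_isReduced (f := f) _ _ _ (li_isPullback Ω Ω' f)
  -- the map to `X'`
  let t : Li Ω Ω' f ⟶ X' := hP.lift (liFst Ω Ω' f ≫ ι) (liSnd Ω Ω' f) (by
    rw [Category.assoc]
    exact (li_isPullback Ω Ω' f).w)
  have ht1 : t ≫ i = liFst Ω Ω' f ≫ ι := hP.lift_fst _ _ _
  have ht2 : t ≫ q' = liSnd Ω Ω' f := hP.lift_snd _ _ _
  have hrange : Set.range t ⊆ Set.range ι₁ := by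
    rintro _ ⟨z, rfl⟩
    have h1 : i (t z) ∈ c.support := by
      rw [← Scheme.Hom.comp_apply, ht1, Scheme.Hom.comp_apply]
      have h2 : Set.range ι = c.support := by
        rw [Scheme.IdealSheafData.range_subschemeι]
        simp
      rw [← h2]
      exact ⟨_, rfl⟩
    obtain ⟨m, hm⟩ := Set.mem_iUnion.1 h1
    have h3 : t z ∈ Set.range (pbLine hP (c.e m) (c.comp_eq m)) := by
      rw [range_pbLine]
      exact hm
    rw [← hc m, ← hl₁ m] at h3
    obtain ⟨y, hy⟩ := h3
    exact ⟨l₁ m y, by rw [← hy, Scheme.Hom.comp_apply]⟩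
  obtain ⟨w, hw⟩ := Ega1.ReducedSub.exists_factor_of_range_subset t ι₁ hrange
  -- the parametrising lines over `Ω'`
  have hθ := (li_isPullback Ω Ω' (CohB1.ProjSpace.toSpec 1 Ω))
  have hθ' := CohqB.ProjBC.isPullback_pmap (algebraMap Ω Ω') 1
  let θ : Li Ω Ω' (CohB1.ProjSpace.toSpec 1 Ω) ⟶ CohB1.ProjSpace 1 Ω' :=
    hθ'.lift (liFst Ω Ω' _) (liSnd Ω Ω' _) hθ.w
  have hθ1 : θ ≫ CohqB.ProjBC.pmap (algebraMap Ω Ω') 1 = liFst Ω Ω' (CohB1.ProjSpace.toSpec 1 Ω) := hθ'.lift_fst _ _ _
  have hθ2 : θ ≫ CohB1.ProjSpace.toSpec 1 Ω' = liSnd Ω Ω' (CohB1.ProjSpace.toSpec 1 Ω) := hθ'.lift_snd _ _ _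
  have hlq : ∀ m, l m ≫ f = CohB1.ProjSpace.toSpec 1 Ω := fun m => by
    change l m ≫ ι ≫ q = _
    rw [← Category.assoc, hl, c.comp_eq]
  have hkey : ∀ m, liMap Ω Ω' f (l m) (CohB1.ProjSpace.toSpec 1 Ω) (hlq m) ≫ w = θ ≫ l₁ m := by
    intro m
    rw [← cancel_mono ι₁, Category.assoc, Category.assoc, hw, hl₁, hc]
    apply hP.hom_ext
    · rw [Category.assoc, Category.assoc, ht1, pbLine_i, ← Category.assoc, liMap_fst, Category.assoc, hl,
        ← Category.assoc, hθ1]
    · rw [Category.assoc, Category.assoc, ht2, pbLine_q, liMap_snd, hθ2]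
  have hpr := Ega3B.ProjProper.isProper_toSpec 1 Ω
  have htw : ∀ d : ℤ, PicF.IsInvertible (Twist.twistProjSpace 1 Ω d) := fun d =>
    Ega3B.ProjTwist.isInvertible_twistProjSpace 1 Ω d
  obtain ⟨N, hN1, hN2⟩ := exists_decomposition Ω Ω' f (fun _ : Fin k => CohB1.ProjSpace 1 Ω) l
    (fun _ => CohB1.ProjSpace.toSpec 1 Ω) hlq (fun _ => inferInstance) (fun _ => inferInstance)
    ((Scheme.Modules.pullback ι).obj E) (isQCoh_pull _ hEq) (isFP_pull _ hE)
    (fun j m => Twist.twistProjSpace 1 Ω (a j m))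
    (fun j m => Ega2.QCohLocal.isQCoh_of_isInvertible (htw (a j m)))
    (fun j m => Models2.FibreFreeSch.isFP_of_isInvertible (htw (a j m)))
    (fun j => (Scheme.Modules.pullback w).obj (L₁ j))
    (pbComp _ _ _ rfl E ≪≫ (pbComp _ _ _ ht1 E).symm ≪≫ (pbComp _ _ _ hw _).symm ≪≫
      (Scheme.Modules.pullback w).mapIso u ≪≫ pullbackBiproduct w L₁)
    (fun j m => ⟨pbComp _ _ _ (hkey m) (L₁ j) ≪≫ (pbComp _ _ _ rfl (L₁ j)).symm ≪≫
      (Scheme.Modules.pullback θ).mapIso ((v j m).some ≪≫
        (Ega3A.PChart.pullTwistIso (algebraMap Ω Ω') 1 (a j m)).symm) ≪≫ pbComp _ _ _ hθ1 _⟩)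
  exact ⟨R, ι, hci, l, hl, N, hN1, hN2⟩

/-- Admissible bundles descend along extensions of algebraically closed fields. -/
theorem isAdmissible_of_ext (hP : IsPullback i q' q (Spec.map (CommRingCat.ofHom φ))) [IsProper q]
    (hd : topologicalKrullDim X ≤ 1) {E : X.Modules} (hEq : Coh.IsQCoh E)
    (hE : CohB1.IsFP E) (r : ℕ)
    (h : VecBal.IsAdmissible Ω' X' q' ((Scheme.Modules.pullback i).obj E) r) : VecBal.IsAdmissible Ω X q E r := by
  intro k c
  obtain ⟨a, h1, h2⟩ := h k (pbChain hP hd c)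
  let _ : Algebra Ω Ω' := φ.toAlgebra
  exact ⟨a, hasDegMatrix_of_ext hP c.toLines (pbChain hP hd c).toLines (fun m => rfl) hEq hE a h1, h2⟩

/-- Properly balanced bundles descend along extensions of algebraically closed fields. -/
theorem properlyBalanced_of_ext (hP : IsPullback i q' q (Spec.map (CommRingCat.ofHom φ))) [IsProper q]
    (hd : topologicalKrullDim X ≤ 1) {E : X.Modules} (hEq : Coh.IsQCoh E)
    (hE : CohB1.IsFP E) (r : ℕ) (d : ℤ) (g : ℕ)
    (h : VecBal.ProperlyBalanced Ω' X' q' ((Scheme.Modules.pullback i).obj E) r d g) :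
    VecBal.ProperlyBalanced Ω X q E r d g :=
  ⟨balanced_of_ext hP hd hEq r d g h.1, isAdmissible_of_ext hP hd hEq hE r h.2⟩

end K996.ExtGeom
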