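import Groth.Agent.VecBal.K996.ExtSemi
import Groth.Agent.CurvesB.VABaseChange
import Groth.Agent.CurvesC.DegIso
import Groth.Agent.Coherent.K98.RankOpen
import Groth.Agent.FormalA.PullbackQC
import Groth.Agent.Sga3C.GeomRedPerf
import Groth.Agent.Ega1.ReducedSub

/-!
# Extension of an algebraically closed base field: subcurves, degrees, balanced bundles
-/

set_option autoImplicit false
universe u
open CategoryTheory CategoryTheory.Limits AlgebraicGeometry TopologicalSpace

namespace K996.ExtGeom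

open Groth.Agent

variable {Ω Ω' : Type u} [Field Ω] [Field Ω'] [IsAlgClosed Ω]
  {φ : Ω →+* Ω'}
  {X X' : Scheme.{u}} {q : X ⟶ Spec (CommRingCat.of Ω)} {q' : X' ⟶ Spec (CommRingCat.of Ω')} {i : X' ⟶ X}

/-- The base change of a reduced closed subscheme is the reduced closed subscheme on the preimage. -/
theorem exists_sq_subsch (hP : IsPullback i q' q (Spec.map (CommRingCat.ofHom φ))) (Z : Set X) (hZ : IsClosed Z)
    (Z' : Set X') (hZ' : IsClosed Z') (h : Z' = i ⁻¹' Z) :
    ∃ j : VecSt.subsch X' Z' hZ' ⟶ VecSt.subsch X Z hZ,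
      IsPullback j (VecSt.subschι X' Z' hZ') (VecSt.subschι X Z hZ) i := by
  have hred : IsReduced (VecSt.subsch X Z hZ) := Ega1.ReducedSub.isReduced_subscheme_vanishingIdeal _
  have hred' : IsReduced (VecSt.subsch X' Z' hZ') := Ega1.ReducedSub.isReduced_subscheme_vanishingIdeal _
  have hpb := (IsPullback.of_hasPullback (VecSt.subschι X Z hZ) i)
  have hpb2 := hpb.paste_vert hP
  have hg : GeometricallyReduced (VecSt.subschι X Z hZ ≫ q) :=
    Sga3C.GeomRedPerf.geometricallyReduced_of_isReduced _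
  have hr : IsReduced (pullback (VecSt.subschι X Z hZ) i) :=
    GeometricallyReduced.geometrically_isReduced (f := VecSt.subschι X Z hZ ≫ q) _ _ _ hpb2
  have hci : IsClosedImmersion (pullback.snd (VecSt.subschι X Z hZ) i) := inferInstance
  have hrange : Set.range (pullback.snd (VecSt.subschι X Z hZ) i) = Set.range (VecSt.subschι X' Z' hZ') := by
    rw [Scheme.IdealSheafData.range_subschemeι]
    have h1 : ((Scheme.IdealSheafData.vanishingIdeal ⟨Z', hZ'⟩ : X'.IdealSheafData).support : Set X') = Z' := by simp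
    have h2 : Set.range (VecSt.subschι X Z hZ) = Z := by
      rw [Scheme.IdealSheafData.range_subschemeι]
      simp
    rw [h1, h]
    have h3 : i ⁻¹' Z = i ⁻¹' (Set.range (VecSt.subschι X Z hZ)) := by rw [h2]
    rw [h3]
    ext y
    constructor
    · rintro ⟨z, rfl⟩
      refine ⟨pullback.fst (VecSt.subschι X Z hZ) i z, ?_⟩
      rw [← Scheme.Hom.comp_apply, ← Scheme.Hom.comp_apply, pullback.condition]
    · rintro ⟨z, hz⟩
      obtain ⟨w, -, hw⟩ := Scheme.exists_preimage_of_isPullback hpb z y hz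
      exact ⟨w, hw⟩
  obtain ⟨ε, hε⟩ := Ega1.ReducedSub.exists_iso_of_range_eq (VecSt.subschι X' Z' hZ')
    (pullback.snd (VecSt.subschι X Z hZ) i) hrange.symm
  refine ⟨ε.hom ≫ pullback.fst _ _, ?_⟩
  exact hpb.of_iso ε.symm (Iso.refl _) (Iso.refl _) (Iso.refl _) (by simp) (by simp [← hε]) (by simp) (by simp)

theorem isSubcurve_preimage (hP : IsPullback i q' q (Spec.map (CommRingCat.ofHom φ))) {Z : Set X}
    (hZ : VecSt.IsSubcurve X Z) : VecSt.IsSubcurve X' (i ⁻¹' Z) := by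
  obtain ⟨𝒮, h1, h2, rfl⟩ := hZ
  refine ⟨(fun A => i ⁻¹' A) '' 𝒮, ?_, h2.image _, ?_⟩
  · rintro _ ⟨A, hA, rfl⟩
    exact preimage_mem hP (h1 hA)
  · rw [Set.sUnion_image, Set.preimage_sUnion]

theorem kZ_preimage (hP : IsPullback i q' q (Spec.map (CommRingCat.ofHom φ))) [IsProper q]
    (hd : topologicalKrullDim X ≤ 1) {Z : Set X} (hZ : VecSt.IsSubcurve X Z) :
    VecSt.kZ X' (i ⁻¹' Z) = VecSt.kZ X Z := by
  have := noetherianSpace_of_proper q
  obtain ⟨𝒮, h1, h2, rfl⟩ := hZ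
  unfold VecSt.kZ
  rw [← Set.preimage_compl, ← preimage_closure hP, ← Set.preimage_inter]
  exact ncard_preimage hP (finite_inter_closure hd h1).2

/-- Balanced bundles descend along extensions of algebraically closed fields. -/
theorem balanced_of_ext (hP : IsPullback i q' q (Spec.map (CommRingCat.ofHom φ))) [IsProper q]
    (hd : topologicalKrullDim X ≤ 1) {E : X.Modules} (hE : Coh.IsQCoh E) (r : ℕ) (d : ℤ) (g : ℕ)
    (h : VecSt.Balanced Ω' X' q' ((Scheme.Modules.pullback i).obj E) r d g) :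
    VecSt.Balanced Ω X q E r d g := by
  intro Z hZ hsub
  have hZ' : IsClosed (i ⁻¹' Z) := hZ.preimage i.continuous
  have h1 := h _ hZ' (isSubcurve_preimage hP hsub)
  obtain ⟨j, hj⟩ := exists_sq_subsch hP Z hZ _ hZ' rfl
  rw [kZ_preimage hP hd hsub] at h1
  let _ : Algebra Ω Ω' := φ.toAlgebra
  let o1 : (VecSt.subsch X Z hZ).Over (Spec (CommRingCat.of Ω)) := ⟨VecSt.subschι X Z hZ ≫ q⟩
  let o2 : (VecSt.subsch X' (i ⁻¹' Z) hZ').Over (Spec (CommRingCat.of Ω')) :=
    ⟨VecSt.subschι X' (i ⁻¹' Z) hZ' ≫ q'⟩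
  have hpr : IsProper (VecSt.subsch X Z hZ ↘ Spec (CommRingCat.of Ω)) :=
    inferInstanceAs (IsProper (VecSt.subschι X Z hZ ≫ q))
  have hsq : IsPullback j (VecSt.subsch X' (i ⁻¹' Z) hZ' ↘ Spec (CommRingCat.of Ω'))
      (VecSt.subsch X Z hZ ↘ Spec (CommRingCat.of Ω)) (Spec.map (CommRingCat.ofHom (algebraMap Ω Ω'))) :=
    hj.paste_vert hP
  have h2 := CurvesB.VABaseChange.deg_eq hsq ((Scheme.Modules.pullback (VecSt.subschι X Z hZ)).obj E)
    (FormalA.PullbackQC.isQCoh_pullback _ _ hE) r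
  have h3 := CurvesB.VABaseChange.euler_structure_eq hsq
  have e1 : (Scheme.Modules.pullback j).obj ((Scheme.Modules.pullback (VecSt.subschι X Z hZ)).obj E) ≅
      (Scheme.Modules.pullback (VecSt.subschι X' (i ⁻¹' Z) hZ')).obj ((Scheme.Modules.pullback i).obj E) :=
    (Scheme.Modules.pullbackComp _ _).app E ≪≫ (Scheme.Modules.pullbackCongr hj.w).app E ≪≫
      ((Scheme.Modules.pullbackComp _ _).app E).symm
  rw [CurvesC.DegIso.deg_congr Ω' e1 r] at h2
  rw [← h2, ← h3]
  exact h1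

omit [IsAlgClosed Ω] in
theorem deg_of_ext (hP : IsPullback i q' q (Spec.map (CommRingCat.ofHom φ))) [IsProper q]
    {E : X.Modules} (hE : Coh.IsQCoh E) (r : ℕ) :
    @Curv2.deg Ω' _ X' ⟨q'⟩ ((Scheme.Modules.pullback i).obj E) r = @Curv2.deg Ω _ X ⟨q⟩ E r := by
  let _ : Algebra Ω Ω' := φ.toAlgebra
  let o1 : X.Over (Spec (CommRingCat.of Ω)) := ⟨q⟩
  let o2 : X'.Over (Spec (CommRingCat.of Ω')) := ⟨q'⟩
  have hpr : IsProper (X ↘ Spec (CommRingCat.of Ω)) := inferInstanceAs (IsProper q)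
  have hsq : IsPullback i (X' ↘ Spec (CommRingCat.of Ω'))
      (X ↘ Spec (CommRingCat.of Ω)) (Spec.map (CommRingCat.ofHom (algebraMap Ω Ω'))) := hP
  exact CurvesB.VABaseChange.deg_eq hsq E hE r

theorem isFinLocFreeOfRank_of_ext (hP : IsPullback i q' q (Spec.map (CommRingCat.ofHom φ))) 
    {E : X.Modules} (hE : Coh.IsQCoh E) (r : ℕ)
    (h : FlatMod.IsFinLocFreeOfRank r ((Scheme.Modules.pullback i).obj E)) : FlatMod.IsFinLocFreeOfRank r E := by
  have h1 := surj hP
  have h2 := flat hP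
  have h3 : QuasiCompact i := by
    have : QuasiCompact (Spec.map (CommRingCat.ofHom φ)) := inferInstance
    exact MorphismProperty.of_isPullback hP.flip this
  exact Coherent.K98.RankOpen.isFinLocFreeOfRank_of_pullback i E hE r h

end K996.ExtGeom
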