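import Groth.Agent.VecBal.K996.ExtGeom
import Groth.Agent.CurvSt.K901.SchPre
import Groth.Agent.CohqB.ProjBC
import Groth.Agent.Ega3A.PChart
import Groth.Prelude.Def_VecBal

/-!
# Extension of an algebraically closed base field: lines, semistable curves
-/

set_option autoImplicit false
universe u
open CategoryTheory CategoryTheory.Limits AlgebraicGeometry TopologicalSpace

namespace K996.ExtGeom

variable {Ω Ω' : Type u} [Field Ω] [Field Ω']
  {φ : Ω →+* Ω'}
  {X X' : Scheme.{u}} {q : X ⟶ Spec (CommRingCat.of Ω)} {q' : X' ⟶ Spec (CommRingCat.of Ω')} {i : X' ⟶ X}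

section Line

open Groth.Agent.CohqB.ProjBC

variable (hP : IsPullback i q' q (Spec.map (CommRingCat.ofHom φ))) (a : CohB1.ProjSpace 1 Ω ⟶ X)
  (ha : a ≫ q = CohB1.ProjSpace.toSpec 1 Ω)

/-- The base change of a parametrised line. -/
noncomputable def pbLine : CohB1.ProjSpace 1 Ω' ⟶ X' :=
  hP.lift (pmap φ 1 ≫ a) (CohB1.ProjSpace.toSpec 1 Ω') (by
    rw [Category.assoc, ha]
    exact (isPullback_pmap φ 1).w)

theorem pbLine_i : pbLine hP a ha ≫ i = pmap φ 1 ≫ a := hP.lift_fst _ _ _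

theorem pbLine_q : pbLine hP a ha ≫ q' = CohB1.ProjSpace.toSpec 1 Ω' := hP.lift_snd _ _ _

theorem isPullback_pbLine : IsPullback (pmap φ 1) (pbLine hP a ha) a i := by
  refine IsPullback.of_bot (v₂₁ := q') (v₂₂ := q) (h₃₁ := Spec.map (CommRingCat.ofHom φ)) ?_
    (pbLine_i hP a ha).symm hP
  rw [pbLine_q, ha]
  exact isPullback_pmap φ 1

theorem isClosedImmersion_pbLine [IsClosedImmersion a] : IsClosedImmersion (pbLine hP a ha) :=
  MorphismProperty.of_isPullback (isPullback_pbLine hP a ha) inferInstance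

theorem range_pbLine : Set.range (pbLine hP a ha) = i ⁻¹' (Set.range a) := by
  ext y
  constructor
  · rintro ⟨z, rfl⟩
    refine ⟨pmap φ 1 z, ?_⟩
    rw [← Scheme.Hom.comp_apply, ← Scheme.Hom.comp_apply, pbLine_i]
  · rintro ⟨z, hz⟩
    obtain ⟨w, -, hw⟩ := Scheme.exists_preimage_of_isPullback (isPullback_pbLine hP a ha) z y hz
    exact ⟨w, hw⟩

end Line

variable [IsAlgClosed Ω] [IsAlgClosed Ω']

theorem isSmRatComp_preimage (hP : IsPullback i q' q (Spec.map (CommRingCat.ofHom φ))) {E : Set X}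
    (hE : CurvSt.IsSmRatComp Ω X q E) : CurvSt.IsSmRatComp Ω' X' q' (i ⁻¹' E) := by
  obtain ⟨h1, a, h2, h3, h4⟩ := hE
  refine ⟨preimage_mem hP h1, pbLine hP a h3, isClosedImmersion_pbLine hP a h3, pbLine_q hP a h3, ?_⟩
  rw [← h4]
  exact range_pbLine hP a h3

/-- The clauses of a semistable curve other than the one on rational components. -/
theorem isSemistablePtd_iff (g : ℕ) :
    VecSt.IsSemistablePtd Ω X q g ↔ StMap.IsPrestablePtd Ω X q g (Fin.elim0 : Fin 0 → X) ∧
      ∀ E : Set X, CurvSt.IsSmRatComp Ω X q E → (2 : ℕ∞) ≤ (CurvSt.meetPts X E).encard := by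
  constructor
  · rintro ⟨h1, h2, h3, h4, h5⟩
    exact ⟨⟨h1, h2, h3, h4, fun x => x.elim0, fun x => x.elim0⟩, h5⟩
  · rintro ⟨⟨h1, h2, h3, h4, -, -⟩, h5⟩
    exact ⟨h1, h2, h3, h4, h5⟩

theorem isPrestablePtd_iff [IsProper q] (hP : IsPullback i q' q (Spec.map (CommRingCat.ofHom φ))) (g : ℕ) :
    StMap.IsPrestablePtd Ω' X' q' g (Fin.elim0 : Fin 0 → X') ↔
      StMap.IsPrestablePtd Ω X q g (Fin.elim0 : Fin 0 → X) := by
  have hlfp : LocallyOfFinitePresentation q := LocallyOfFinitePresentation.iff_locallyOfFiniteType.2 inferInstance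
  let σ : Fin 0 → (Spec (CommRingCat.of Ω) ⟶ X) := Fin.elim0
  have hσ : ∀ k, σ k ≫ q = 𝟙 _ := fun k => k.elim0
  have hid : IsPullback (𝟙 X) q q (𝟙 _) := IsPullback.of_horiz_isIso ⟨by simp⟩
  have h1 := K901.SchPre.isPrestablePtd_iff q σ hσ g hP
  have h2 := K901.SchPre.isPrestablePtd_iff q σ hσ g hid
  have h3 : (𝟙 (Spec (CommRingCat.of Ω)) : _ ⟶ _).base (IsLocalRing.closedPoint Ω) =
      (Spec.map (CommRingCat.ofHom φ)).base (IsLocalRing.closedPoint Ω') := Subsingleton.elim _ _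
  rw [h3] at h2
  have e1 : CurvSt.markedPt σ hσ hP = (Fin.elim0 : Fin 0 → X') := funext fun k => k.elim0
  have e2 : CurvSt.markedPt σ hσ hid = (Fin.elim0 : Fin 0 → X) := funext fun k => k.elim0
  rw [e1] at h1
  rw [e2] at h2
  exact h1.trans h2.symm

theorem noetherianSpace_of_proper (q : X ⟶ Spec (CommRingCat.of Ω)) [IsProper q] : NoetherianSpace X := by
  have hN : IsNoetherian X := Groth.Agent.CurvesB.NodalFibreH.isNoetherian_of_isProper Ω X q
  infer_instance

/-- A proper curve which is semistable after an extension of algebraically closed fields is semistable. -/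
theorem isSemistablePtd_of_ext [IsProper q] (hP : IsPullback i q' q (Spec.map (CommRingCat.ofHom φ))) {g : ℕ}
    (h : VecSt.IsSemistablePtd Ω' X' q' g) : VecSt.IsSemistablePtd Ω X q g := by
  rw [isSemistablePtd_iff] at h ⊢
  obtain ⟨h1, h2⟩ := h
  have h3 := (isPrestablePtd_iff hP g).1 h1
  refine ⟨h3, fun E hE => ?_⟩
  have h4 := h2 _ (isSmRatComp_preimage hP hE)
  have := noetherianSpace_of_proper q
  rwa [meetPts_preimage hP, encard_preimage hP fun x hx => isClosed_of_mem_meetPts h3.2.2.1.le hE.1 hx] at h4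

end K996.ExtGeom
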