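import Groth.Agent.S5134
import Groth.Agent.Desc.K390.FpqcFamily
import Groth.Agent.PerfC.FPSections
import Groth.Agent.FormalA.PullbackQC

/-!
# Finite presentation of modules descends along fpqc covering families
-/

set_option autoImplicit false
universe v u
open CategoryTheory CategoryTheory.Limits AlgebraicGeometry

namespace K996.FpqcFP

open Groth.Agent

/-- Composite pull-back. -/
noncomputable def pbC {X Y Z : Scheme.{u}} (a : Z ⟶ Y) (b : Y ⟶ X) (c : Z ⟶ X) (h : a ≫ b = c) (M : X.Modules) :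
    (Scheme.Modules.pullback a).obj ((Scheme.Modules.pullback b).obj M) ≅ (Scheme.Modules.pullback c).obj M :=
  (Scheme.Modules.pullbackComp a b).app M ≪≫ (Scheme.Modules.pullbackCongr h).app M

theorem isFP_pull {X Y : Scheme.{u}} (f : Y ⟶ X) {M : X.Modules} (hM : CohB1.IsFP M) :
    CohB1.IsFP ((Scheme.Modules.pullback f).obj M) :=
  FormalA.PullbackQC.isFP_pullback f M hM

theorem isFP_of_finite_family {S : Scheme.{u}} {n : ℕ} (W : Fin n → Scheme.{u})
    [∀ k, IsAffine (W k)] [IsAffine S] (q : ∀ k, W k ⟶ S) [∀ k, Flat (q k)]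
    (hq : ∀ s : S, ∃ (k : Fin n) (w : W k), q k w = s) (M : S.Modules) (hM : Coh.IsQCoh M)
    (h : ∀ k, CohB1.IsFP ((Scheme.Modules.pullback (q k)).obj M)) : CohB1.IsFP M := by
  let W' : ULift.{u} (Fin n) → Scheme.{u} := fun k => W k.down
  let Q : ∐ W' ⟶ S := Sigma.desc (fun k => q k.down)
  have hW' : ∀ k, IsAffine (W' k) := fun k => inferInstanceAs (IsAffine (W k.down))
  have hQ : ∀ i : ULift.{u} (Fin n), Sigma.ι W' i ≫ Q = q i.down := fun i => Sigma.ι_desc _ _
  have h1 : Surjective Q := ⟨fun s => by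
    obtain ⟨k, w, hw⟩ := hq s
    refine ⟨Sigma.ι W' ⟨k⟩ w, ?_⟩
    rw [← Scheme.Hom.comp_apply, hQ]
    exact hw⟩
  have h2 : Flat Q := by
    rw [IsZariskiLocalAtSource.iff_of_openCover (P := @Flat) (sigmaOpenCover W')]
    intro i
    have : (sigmaOpenCover W').f i ≫ Q = q (ULift.down i) := hQ i
    rw [this]
    exact inferInstanceAs (Flat (q (ULift.down i)))
  have h3 : QuasiCompact Q := inferInstance
  refine S5134.result Q M hM (PerfC.FPSections.isFP_of_cover fun x => ?_)
  obtain ⟨i, y, hy⟩ := (sigmaOpenCover W').exists_eq x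
  refine ⟨W' i, Sigma.ι W' i, inferInstanceAs (IsOpenImmersion ((sigmaOpenCover W').f i)), y, hy, ?_⟩
  refine PerfC.FPSections.isFP_of_iso ?_ (h i.down)
  exact (pbC _ _ _ (hQ i) M).symm ≪≫ ((Scheme.Modules.restrictFunctorIsoPullback (Sigma.ι W' i)).app _).symm

/-- Finite presentation descends along fpqc covering families. -/
theorem isFP_of_family {ι : Type v} {Y : Scheme.{u}} {Z : ι → Scheme.{u}} (g : ∀ i, Z i ⟶ Y)
    (hg : Presieve.ofArrows Z g ∈ Scheme.fpqcPrecoverage Y) (M : Y.Modules) (hM : Coh.IsQCoh M)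
    (h : ∀ i, CohB1.IsFP ((Scheme.Modules.pullback (g i)).obj M)) : CohB1.IsFP M := by
  refine PerfC.FPSections.isFP_of_cover fun x => ?_
  obtain ⟨a, y, hy⟩ := Y.affineCover.exists_eq x
  refine ⟨_, Y.affineCover.f a, inferInstance, y, hy, ?_⟩
  let j := Y.affineCover.f a
  have hA : IsAffine (Y.affineCover.X a) := inferInstance
  have hg' : Presieve.ofArrows _ (fun i => pullback.snd (g i) j) ∈
      Scheme.fpqcPrecoverage (Y.affineCover.X a) :=
    Scheme.fpqcPrecoverage.{u}.mem_coverings_of_isPullback g hg j (fun i => pullback.snd (g i) j)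
      (fun i => pullback.fst (g i) j) fun i => (IsPullback.of_hasPullback (g i) j).flip
  obtain ⟨n, W, α, p, hp1, hp2, hp3, hp4⟩ := Groth.Agent.Desc.FpqcRefine.exists_refine _ hg'
  refine PerfC.FPSections.isFP_of_iso ((Scheme.Modules.restrictFunctorIsoPullback j).app M).symm ?_
  refine isFP_of_finite_family W (fun k => p k ≫ pullback.snd (g (α k)) j) hp4 _
    (FormalA.PullbackQC.isQCoh_pullback _ _ hM) fun k => ?_
  have e : (p k ≫ pullback.snd (g (α k)) j) ≫ j = (p k ≫ pullback.fst (g (α k)) j) ≫ g (α k) := by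
    rw [Category.assoc, ← pullback.condition, Category.assoc]
  exact PerfC.FPSections.isFP_of_iso (pbC _ _ _ e M ≪≫ (pbC _ _ _ rfl M).symm).symm (isFP_pull _ (h (α k)))

end K996.FpqcFP
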