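import Groth.Agent.VecBal.K996.ExtAdm
import Groth.Agent.VecBal.K996.FpqcFP
import Groth.Agent.ModSt.K927.Cart
import Groth.Agent.Fdesc.FlatBC
import Groth.Agent.Htor.H247.KunnethFlat
import Groth.Agent.PerfC.RelFlat
import Groth.Agent.GrpQ.K185.FamRep
import Groth.Agent.S0086
import Groth.Agent.S9867

/-!
# The conditions of `Vec_{r,d,g}` are stable under base change and descend along fpqc covering families

* `Good g r d`: the fibre condition; `good_iso`, `good_of_ext`.
* `InVec g r d A`: the condition defining `VecBal.Vecrdg`; `inVec_iff`.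
* `inVec_of_hom`: stability under base change.
* `inVec_of_cover`: descent along a family of morphisms `A i ⟶ B` over an fpqc covering family.
-/

set_option autoImplicit false
universe v u
open CategoryTheory CategoryTheory.Limits AlgebraicGeometry TopologicalSpace

namespace K996.FamDesc

open Groth.Agent K996.ExtGeom K996.Spread

/-- All the conditions on a geometric fibre of an object of `Vec_{r,d,g}`. -/
def Good (g r : ℕ) (d : ℤ) (Ω : Type u) [Field Ω] [IsAlgClosed Ω] (Y : Scheme.{u})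
    (q : Y ⟶ Spec (CommRingCat.of Ω)) (F : Y.Modules) : Prop :=
  VecSt.IsSemistablePtd Ω Y q g ∧ FlatMod.IsFinLocFreeOfRank (X := Y) r F ∧
    @Curv2.deg Ω _ Y ⟨q⟩ F r = d ∧ VecBal.PB r d g Ω Y q F

variable {g r : ℕ} {d : ℤ}

section Iso

variable {Ω : Type u} [Field Ω] [IsAlgClosed Ω] {Y : Scheme.{u}}
    {q : Y ⟶ Spec (CommRingCat.of Ω)} {F F' : Y.Modules} (e : F ≅ F')

include e

theorem balanced_iso (h : VecSt.Balanced Ω Y q F r d g) : VecSt.Balanced Ω Y q F' r d g := by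
  intro Z hZ hsub
  have h1 := h Z hZ hsub
  let o1 : (VecSt.subsch Y Z hZ).Over (Spec (CommRingCat.of Ω)) := ⟨VecSt.subschι Y Z hZ ≫ q⟩
  rw [CurvesC.DegIso.deg_congr Ω ((Scheme.Modules.pullback (VecSt.subschι Y Z hZ)).mapIso e.symm) r]
  exact h1

omit [IsAlgClosed Ω] in
theorem isAdmissible_iso (h : VecBal.IsAdmissible Ω Y q F r) : VecBal.IsAdmissible Ω Y q F' r := by
  intro k c
  obtain ⟨a, ⟨R, ι, hι, l, hl, L, ⟨u⟩, v⟩, h2⟩ := h k c
  exact ⟨a, ⟨R, ι, hι, l, hl, L, ⟨(Scheme.Modules.pullback ι).mapIso e.symm ≪≫ u⟩, v⟩, h2⟩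

theorem good_iso (h : Good g r d Ω Y q F) : Good g r d Ω Y q F' := by
  obtain ⟨h1, h2, h3, h4, h5⟩ := h
  refine ⟨h1, ?_, ?_, balanced_iso e h4, isAdmissible_iso e h5⟩
  · intro x
    obtain ⟨U, hU, ⟨a⟩⟩ := h2 x
    exact ⟨U, hU, ⟨(Scheme.Modules.restrictFunctor U.ι).mapIso e.symm ≪≫ a⟩⟩
  · let o1 : Y.Over (Spec (CommRingCat.of Ω)) := ⟨q⟩
    rw [← h3]
    exact CurvesC.DegIso.deg_congr Ω e.symm r

end Iso

/-- The fibre condition descends along extensions of algebraically closed fields. -/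
theorem good_of_ext {Ω Ω' : Type u} [Field Ω] [Field Ω'] [IsAlgClosed Ω] [IsAlgClosed Ω'] {φ : Ω →+* Ω'}
    {X X' : Scheme.{u}} {q : X ⟶ Spec (CommRingCat.of Ω)} {q' : X' ⟶ Spec (CommRingCat.of Ω')} {i : X' ⟶ X}
    (hP : IsPullback i q' q (Spec.map (CommRingCat.ofHom φ))) [IsProper q] {E : X.Modules}
    (hEq : Coh.IsQCoh E) (hE : CohB1.IsFP E)
    (h : Good g r d Ω' X' q' ((Scheme.Modules.pullback i).obj E)) : Good g r d Ω X q E := by
  obtain ⟨h1, h2, h3, h4⟩ := h
  have h5 := isSemistablePtd_of_ext hP h1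
  refine ⟨h5, isFinLocFreeOfRank_of_ext hP hEq r h2, ?_, properlyBalanced_of_ext hP h5.2.2.1.le hEq hE r d g h4⟩
  rw [← deg_of_ext hP hEq r]
  exact h3

/-- A geometric point lifts to a covering after an extension. -/
theorem exists_common {Ω : Type u} [Field Ω] {T T' : Scheme.{u}} (t : Spec (CommRingCat.of Ω) ⟶ T) (b : T' ⟶ T)
    (y : T') (hy : b y = t (IsLocalRing.closedPoint Ω)) :
    ∃ (Ω' : Type u) (_ : Field Ω') (_ : IsAlgClosed Ω') (e : Spec (CommRingCat.of Ω') ⟶ Spec (CommRingCat.of Ω))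
      (t' : Spec (CommRingCat.of Ω') ⟶ T'), e ≫ t = t' ≫ b := by
  obtain ⟨z, -, -⟩ := Scheme.Pullback.exists_preimage_pullback (f := t) (g := b)
    (IsLocalRing.closedPoint Ω) y hy.symm
  obtain ⟨s⟩ : Nonempty (Spec (CommRingCat.of (AlgebraicClosure ((pullback t b).residueField z))) ⟶ pullback t b) :=
    ⟨Spec.map (CommRingCat.ofHom (algebraMap ((pullback t b).residueField z)
      (AlgebraicClosure ((pullback t b).residueField z)))) ≫ (pullback t b).fromSpecResidueField z⟩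
  refine ⟨AlgebraicClosure ((pullback t b).residueField z), inferInstance, inferInstance,
    s ≫ pullback.fst t b, s ≫ pullback.snd t b, ?_⟩
  rw [Category.assoc, Category.assoc, pullback.condition]

section Fib

variable {C T : Scheme.{u}} {f : C ⟶ T} {E : C.Modules}

/-- The fibre condition is stable under base change. -/
theorem fibrewise_of_isPullback {C' T' : Scheme.{u}} {f' : C' ⟶ T'} {a : C' ⟶ C} {b : T' ⟶ T}
    (hP : IsPullback a f' f b) (h : VecSt.Fibrewise f E (Good g r d)) :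
    VecSt.Fibrewise f' ((Scheme.Modules.pullback a).obj E) (Good g r d) := by
  intro Ω _ _ t Xt i qt hi
  exact good_iso (pbComp _ _ _ rfl E).symm (h Ω (t ≫ b) Xt (i ≫ a) qt (hi.paste_horiz hP))

/-- The fibre condition can be tested after a covering of the base. -/
theorem fibrewise_of_cover [IsProper f] (hEq : Coh.IsQCoh E) (hE : CohB1.IsFP E) {ι : Type v}
    (C' T' : ι → Scheme.{u}) (f' : ∀ j, C' j ⟶ T' j) (a : ∀ j, C' j ⟶ C) (b : ∀ j, T' j ⟶ T)
    (hP : ∀ j, IsPullback (a j) (f' j) f (b j)) (hb : ∀ t : T, ∃ j, t ∈ Set.range (b j))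
    (h : ∀ j, VecSt.Fibrewise (f' j) ((Scheme.Modules.pullback (a j)).obj E) (Good g r d)) :
    VecSt.Fibrewise f E (Good g r d) := by
  intro Ω _ _ t Xt i qt hi
  obtain ⟨j, y, hy⟩ := hb (t (IsLocalRing.closedPoint Ω))
  obtain ⟨Ω', _, _, e, t', he⟩ := exists_common t (b j) y hy
  obtain ⟨φ, rfl⟩ := Spec.map_surjective e
  have hqt : IsProper qt := MorphismProperty.of_isPullback hi inferInstance
  have hi' : IsPullback (pullback.fst qt (Spec.map φ)) (pullback.snd qt (Spec.map φ)) qt (Spec.map φ) :=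
    IsPullback.of_hasPullback _ _
  generalize pullback.fst qt (Spec.map φ) = i' at hi'
  generalize pullback.snd qt (Spec.map φ) = q' at hi'
  generalize pullback qt (Spec.map φ) = X' at i' q'
  -- the map to `C' j`
  have hbig : IsPullback (i' ≫ i) q' f (Spec.map φ ≫ t) := hi'.paste_horiz hi
  have hw : (i' ≫ i) ≫ f = (q' ≫ t') ≫ b j := by rw [hbig.w, he, Category.assoc]
  have hm1 : (hP j).lift (i' ≫ i) (q' ≫ t') hw ≫ a j = i' ≫ i := (hP j).lift_fst _ _ _
  have hm2 : (hP j).lift (i' ≫ i) (q' ≫ t') hw ≫ f' j = q' ≫ t' := (hP j).lift_snd _ _ _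
  generalize (hP j).lift (i' ≫ i) (q' ≫ t') hw = m at hm1 hm2
  have hm : IsPullback m q' (f' j) t' := by
    refine IsPullback.of_right ?_ hm2 (hP j)
    rw [hm1, ← he]
    exact hbig
  have h1 := h j Ω' _ X' m q' hm
  have h2 : Good g r d Ω' X' q' ((Scheme.Modules.pullback i').obj ((Scheme.Modules.pullback i).obj E)) :=
    good_iso (pbComp _ _ _ hm1 E ≪≫ (pbComp _ _ _ rfl E).symm) h1
  exact good_of_ext (φ := φ.hom) hi' (isQCoh_pull _ hEq) (isFP_pull _ hE) h2

end Fib

/-- The condition on a pair `(T, C, f, E)` defining `VecBal.Vecrdg`. -/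
def InVec (g r : ℕ) (d : ℤ) {S : Scheme.{u}} (A : VecSt.Obj S 0) : Prop :=
  VecSt.IsSemistableFam A.f g ∧ (VecSt.IsVB A.f A.E r ∧ VecSt.FibDeg A.f A.E r d ∧
    VecSt.Fibrewise A.f A.E (VecBal.PB r d g))

theorem inVec_iff {S : Scheme.{u}} (A : VecSt.Obj S 0) : InVec g r d A ↔
    Flat A.f ∧ IsProper A.f ∧ FlatMod.IsFlatOver A.f A.E ∧ CohB1.IsFP A.E ∧
      VecSt.Fibrewise A.f A.E (Good g r d) := by
  constructor
  · rintro ⟨⟨h1, h2, h3⟩, ⟨h4, h5, h6⟩, h7, h8⟩
    exact ⟨h1, h2, h4, h5, fun Ω _ _ t X i q hi => ⟨h3 Ω t X i q hi, h6 Ω t X i q hi, h7 Ω t X i q hi,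
      h8 Ω t X i q hi⟩⟩
  · rintro ⟨h1, h2, h3, h4, h5⟩
    exact ⟨⟨h1, h2, fun Ω _ _ t X i q hi => (h5 Ω t X i q hi).1⟩,
      ⟨h3, h4, fun Ω _ _ t X i q hi => (h5 Ω t X i q hi).2.1⟩,
      fun Ω _ _ t X i q hi => (h5 Ω t X i q hi).2.2.1, fun Ω _ _ t X i q hi => (h5 Ω t X i q hi).2.2.2⟩

/-- The module of the source of a morphism is the pull-back. -/
theorem nonempty_pull_iso {S : Scheme.{u}} {n : ℕ} {A B : VecSt.Obj S n} (φ : A ⟶ B) :
    Nonempty ((Scheme.Modules.pullback φ.hom.top).obj B.E ≅ A.E) :=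
  K927.ModSt.nonempty_iso_pullback φ.cart

theorem fibrewise_iso {C T : Scheme.{u}} {f : C ⟶ T} {E E' : C.Modules} (e : E ≅ E')
    (h : VecSt.Fibrewise f E (Good g r d)) : VecSt.Fibrewise f E' (Good g r d) :=
  fun Ω _ _ t X i q hi => good_iso ((Scheme.Modules.pullback i).mapIso e) (h Ω t X i q hi)

/-- The condition is stable under base change. -/
theorem inVec_of_hom {S : Scheme.{u}} {A B : VecSt.Obj S 0} (φ : A ⟶ B) (h : InVec g r d B) : InVec g r d A := by
  rw [inVec_iff] at h ⊢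
  obtain ⟨h1, h2, h3, h4, h5⟩ := h
  obtain ⟨e⟩ := nonempty_pull_iso φ
  have hP : IsPullback φ.hom.top A.f B.f φ.hom.base.left := φ.hom.cart
  refine ⟨MorphismProperty.of_isPullback hP h1, MorphismProperty.of_isPullback hP h2, ?_, ?_, ?_⟩
  · exact PerfC.RelFlat.isFlatOver_of_iso A.f e (Htor.H247.KunnethFlat.isFlatOver_pullback hP _ h3)
  · exact Smoothlim.FPMod.isFP_of_iso e (isFP_pull _ h4)
  · exact fibrewise_iso e (fibrewise_of_isPullback hP h5)

theorem flat_descends : MorphismProperty.DescendsAlong @Flat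
    (@Surjective ⊓ @Flat ⊓ @QuasiCompact : MorphismProperty Scheme.{u}) :=
  S9867.flat_descends

/-- The condition descends along fpqc covering families. -/
theorem inVec_of_cover {S : Scheme.{u}} {B : VecSt.Obj S 0} (hq : Coh.IsQCoh B.E) {ι : Type u}
    (A : ι → VecSt.Obj S 0) (φ : ∀ j, A j ⟶ B)
    (hc : Presieve.ofArrows (fun j => (A j).base.left) (fun j => (φ j).hom.base.left) ∈
      Scheme.fpqcPrecoverage B.base.left) (h : ∀ j, InVec g r d (A j)) : InVec g r d B := by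
  have h' := fun j => (inVec_iff _).1 (h j)
  have hP : ∀ j, IsPullback (φ j).hom.top (A j).f B.f (φ j).hom.base.left := fun j => (φ j).hom.cart
  have e := fun j => (nonempty_pull_iso (φ j)).some
  have hfl : ∀ j, Flat (φ j).hom.base.left := fun j => K185.FamRep.flat_of_mem _ hc j
  have hs : ∀ t : B.base.left, ∃ j, t ∈ Set.range (φ j).hom.base.left := K185.FamRep.surj_of_mem _ hc
  have hp : ∀ (P : MorphismProperty Scheme.{u}) [IsZariskiLocalAtTarget P]
      [P.DescendsAlong (@Surjective ⊓ @Flat ⊓ @QuasiCompact)], (∀ j, P (A j).f) → P B.f := by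
    intro P _ _ hA
    refine K390.FpqcFamily.prop_of_ofArrows P B.f _ hc fun j => ?_
    rw [← (hP j).isoPullback_inv_snd]
    exact (P.cancel_left_of_respectsIso _ _).2 (hA j)
  have hdf := flat_descends.{u}
  have hdp := S0086.result.{u}
  have hflat : Flat B.f := hp @Flat fun j => (h' j).1
  have hproper : IsProper B.f := hp @IsProper fun j => (h' j).2.1
  have hFP : CohB1.IsFP B.E := by
    refine K996.FpqcFP.isFP_of_family (fun j => (φ j).hom.top) ?_ B.E hq fun j =>
      Smoothlim.FPMod.isFP_of_iso (e j).symm (h' j).2.2.2.1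
    exact Scheme.fpqcPrecoverage.{u}.mem_coverings_of_isPullback _ hc B.f _ (fun j => (A j).f) fun j => hP j
  refine (inVec_iff _).2 ⟨hflat, hproper, ?_, hFP, ?_⟩
  · intro x
    obtain ⟨j, y, hy⟩ := hs (B.f x)
    obtain ⟨z, hz, -⟩ := Scheme.exists_preimage_of_isPullback (hP j) x y hy.symm
    rw [← hz]
    exact Fdesc.FlatBC.isFlatOverAt_of_pullback (hP j) B.E z
      (PerfC.RelFlat.isFlatOver_of_iso (A j).f (e j).symm (h' j).2.2.1 z)
  · exact fibrewise_of_cover hq hFP (fun j => (A j).C) (fun j => (A j).base.left) (fun j => (A j).f)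
      (fun j => (φ j).hom.top) (fun j => (φ j).hom.base.left) hP hs fun j =>
        fibrewise_iso (e j).symm (h' j).2.2.2.2

end K996.FamDesc
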