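import Groth.Agent.ModSt.K599.LMod
import Groth.Agent.CurvSt.K899.OpenCrit
import Groth.Prelude.Def_VecSt

/-!
# Families of schemes with a module, and schemes with a module

`toL : VecSt.Obj S n ⥤ LObj`; morphisms of families over a given morphism of bases are the cartesian morphisms of
`LObj` over cartesian squares; `VecSt.Fam S 0` is fibred in groupoids.
-/

set_option autoImplicit false
universe v w u

open CategoryTheory CategoryTheory.Limits AlgebraicGeometry

noncomputable section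

namespace K996.FamL

open K599.LMod

variable {S : Scheme.{u}} {n : ℕ}

/-- The total space with its module. -/
def toL : VecSt.Obj S n ⥤ LObj.{u} where
  obj A := ⟨A.C, A.E⟩
  map φ := ⟨φ.hom.top, φ.c⟩
  map_id _ := rfl
  map_comp _ _ := rfl

theorem cart_toL {A B : VecSt.Obj S n} (φ : A ⟶ B) : Cart (toL.map φ) := φ.cart

theorem hom_ext' {A A' : VecSt.Obj S n} {φ φ' : A ⟶ A'} (h1 : φ.hom.base = φ'.hom.base)
    (h : toL.map φ = toL.map φ') : φ = φ' := by
  obtain ⟨⟨b1, t1, c1, s1⟩, c, hc⟩ := φ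
  obtain ⟨⟨b2, t2, c2, s2⟩, c', hc'⟩ := φ'
  dsimp only at h1
  subst h1
  have ht : t1 = t2 := congrArg LObj.Hom.top h
  subst ht
  have hcc : c = c' := by
    have h3 : (⟨t1, c⟩ : LObj.Hom (toL.obj A) (toL.obj A')) = ⟨t1, c'⟩ := h
    injection h3
  subst hcc
  rfl

/-- Unique factorisation over a factorisation of the bases. -/
theorem existsUnique_fac {A B D : VecSt.Obj S 0} (φ : B ⟶ A) (ψ : D ⟶ A) (g : D.base ⟶ B.base)
    (hg : g ≫ φ.hom.base = ψ.hom.base) : ∃! χ : D ⟶ B, χ.hom.base = g ∧ χ ≫ φ = ψ := by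
  have hsq : IsPullback φ.hom.top B.f A.f φ.hom.base.left := φ.hom.cart
  have h1 : g.left ≫ φ.hom.base.left = ψ.hom.base.left := by rw [← hg]; rfl
  have hsq' : IsPullback ψ.hom.top D.f A.f (g.left ≫ φ.hom.base.left) := by
    rw [h1]
    exact ψ.hom.cart
  obtain ⟨t, ht1, ht2⟩ : ∃ t : D.C ⟶ B.C, t ≫ φ.hom.top = ψ.hom.top ∧ t ≫ B.f = D.f ≫ g.left :=
    ⟨hsq.lift ψ.hom.top (D.f ≫ g.left) (by rw [Category.assoc]; exact hsq'.w), hsq.lift_fst _ _ _,
      hsq.lift_snd _ _ _⟩
  obtain ⟨χ, ⟨hχ1, hχ2⟩, hχ3⟩ := (cart_toL φ).existsUnique_lift (toL.map ψ) t ht1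
  have hc : Cart χ := (cart_toL φ).of_comp (by rw [hχ2]; exact cart_toL ψ)
  have hsq2 : IsPullback χ.top D.f B.f g.left := by
    have h3 : χ.top ≫ φ.hom.top = ψ.hom.top := by rw [hχ1]; exact ht1
    have h4 : χ.top ≫ B.f = D.f ≫ g.left := by rw [hχ1]; exact ht2
    exact IsPullback.of_right (by rw [h3]; exact hsq') h4 hsq
  refine ⟨⟨⟨g, χ.top, hsq2, fun i => i.elim0⟩, χ.c, hc⟩, ⟨rfl, ?_⟩, ?_⟩
  · refine hom_ext' ?_ ?_
    · exact hg
    · exact hχ2
  · rintro χ' ⟨h5, h6⟩
    refine hom_ext' h5 ?_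
    refine hχ3 (toL.map χ') ⟨?_, ?_⟩
    · have h7 : χ'.hom.top = t := by
        refine hsq.hom_ext ?_ ?_
        · rw [ht1, ← h6]
          rfl
        · rw [ht2, ← h5]
          exact χ'.hom.cart.w
      exact h7
    · rw [← h6]
      exact (toL.map_comp _ _).symm

/-- The families of schemes with a module are fibred in groupoids. -/
theorem isFibGrpd_fam : FibCat.IsFibGrpd (VecSt.Fam S 0).p where
  exists_lift := fun {x} {V} f => by
    let x' : VecSt.Obj S 0 := x
    let y : VecSt.Obj S 0 :=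
      { base := V, C := pullback x'.f f.left, f := pullback.snd _ _, sect := fun i => i.elim0,
        sect_f := fun i => i.elim0, E := (Scheme.Modules.pullback (pullback.fst x'.f f.left)).obj x'.E }
    let φ : y ⟶ x' := ⟨⟨f, pullback.fst x'.f f.left, IsPullback.of_hasPullback _ _, fun i => i.elim0⟩,
      (pbHom (toL.obj x') (pullback.fst x'.f f.left)).c, cart_pbHom (toL.obj x') (pullback.fst x'.f f.left)⟩
    exact ⟨y, φ, IsHomLift.map (VecSt.Obj.forget S 0) φ⟩
  isStronglyCartesian := fun {y x} φ =>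
    { universal_property' := fun {a'} g φ' hφ' => by
        have h1 := IsHomLift.eq_of_isHomLift (p := (VecSt.Fam S 0).p) (g ≫ (VecSt.Fam S 0).p.map φ) φ'
        obtain ⟨χ, ⟨hχ1, hχ2⟩, hχ3⟩ := existsUnique_fac (A := x) (B := y) (D := a') φ φ' g h1
        refine ⟨χ, ⟨?_, hχ2⟩, ?_⟩
        · subst hχ1
          exact IsHomLift.map (VecSt.Obj.forget S 0) χ
        · rintro χ' ⟨h2, h3⟩
          refine hχ3 χ' ⟨?_, h3⟩
          exact (IsHomLift.eq_of_isHomLift (p := (VecSt.Fam S 0).p) g χ').symm }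

end K996.FamL
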