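import Groth.Agent.VecBal.K996.AsmLoc
import Groth.Agent.ModSt.K927.EnGlue
import Groth.Agent.Desc.ZarGlue
import Groth.Agent.FormalA.PullbackQC

/-!
# Gluing universal isomorphisms of pairs (scheme, module) over the base (helper996)
-/

set_option autoImplicit false
set_option backward.isDefEq.respectTransparency false
set_option backward.isDefEq.respectTransparency.types false

universe u

open CategoryTheory CategoryTheory.Limits AlgebraicGeometry Opposite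

noncomputable section

namespace K996.GlueB

open K599.LMod K599.Rep K996.Trans Groth.Agent.Picfga.OverRep

section RO

variable {B X : Scheme.{u}} (f : X ⟶ B) (E : X.Modules)

/-- The base change of `(X, E)`. -/
abbrev RO (T : Over B) : LObj.{u} := pb (⟨X, E⟩ : LObj.{u}) (pullback.fst f T.hom)

/-- The projection. -/
abbrev rπ (T : Over B) : RO f E T ⟶ (⟨X, E⟩ : LObj.{u}) := pbHom (⟨X, E⟩ : LObj.{u}) (pullback.fst f T.hom)

/-- The structure morphism. -/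
def rq (T : Over B) : (RO f E T).Y ⟶ T.left := pullback.snd f T.hom

theorem cart_rπ (T : Over B) : Cart (rπ f E T) := cart_pbHom _ _

theorem sq_rπ (T : Over B) : IsPullback (rπ f E T).top (rq f E T) f T.hom := IsPullback.of_hasPullback f T.hom

variable {f E}

/-- Morphisms to a base change. -/
theorem rext {T : Over B} {y : LObj.{u}} {a b : y ⟶ RO f E T} (h1 : a ≫ rπ f E T = b ≫ rπ f E T)
    (h2 : a.top ≫ rq f E T = b.top ≫ rq f E T) : a = b :=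
  (cart_rπ f E T).hom_ext' ((sq_rπ f E T).hom_ext (congrArg LObj.Hom.top h1) h2) h1

theorem rlift {T : Over B} {y : LObj.{u}} (a : y ⟶ (⟨X, E⟩ : LObj.{u})) (t : y.Y ⟶ T.left)
    (h : a.top ≫ f = t ≫ T.hom) : ∃ b : y ⟶ RO f E T, b ≫ rπ f E T = a ∧ b.top ≫ rq f E T = t := by
  let b := (sq_rπ f E T).lift a.top t h
  have h1 : b ≫ (rπ f E T).top = a.top := (sq_rπ f E T).lift_fst _ _ _
  refine ⟨(cart_rπ f E T).lift a b h1, Cart.lift_comp _ _ _ _, ?_⟩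
  rw [Cart.lift_top]
  exact (sq_rπ f E T).lift_snd _ _ _

variable (f E)

theorem exists_rmap {T' T : Over B} (g : T' ⟶ T) : ∃ b : RO f E T' ⟶ RO f E T, b ≫ rπ f E T = rπ f E T' ∧
    b.top ≫ rq f E T = rq f E T' ≫ g.left :=
  rlift _ _ (by rw [Category.assoc, Over.w g]; exact (sq_rπ f E T').w)

/-- The base change along `g`. -/
def rmap {T' T : Over B} (g : T' ⟶ T) : RO f E T' ⟶ RO f E T := (exists_rmap f E g).choose

theorem rmap_π {T' T : Over B} (g : T' ⟶ T) : rmap f E g ≫ rπ f E T = rπ f E T' := (exists_rmap f E g).choose_spec.1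

theorem rmap_q {T' T : Over B} (g : T' ⟶ T) : (rmap f E g).top ≫ rq f E T = rq f E T' ≫ g.left :=
  (exists_rmap f E g).choose_spec.2

theorem cart_rmap {T' T : Over B} (g : T' ⟶ T) : Cart (rmap f E g) :=
  Cart.of_comp (cart_rπ f E T) (by rw [rmap_π]; exact cart_rπ f E T')

theorem sq_rmap {T' T : Over B} (g : T' ⟶ T) : IsPullback (rmap f E g).top (rq f E T') (rq f E T) g.left := by
  refine IsPullback.of_right (h₁₂ := (rπ f E T).top) (v₁₃ := f) (h₂₂ := T.hom) ?_ (rmap_q f E g) (sq_rπ f E T)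
  have h1 : (rmap f E g).top ≫ (rπ f E T).top = (rπ f E T').top := congrArg LObj.Hom.top (rmap_π f E g)
  rw [h1, Over.w g]
  exact sq_rπ f E T'

theorem rmap_id (T : Over B) : rmap f E (𝟙 T) = 𝟙 _ := by
  refine rext ?_ ?_
  · rw [rmap_π, Category.id_comp]
  · rw [rmap_q, id_top, Category.id_comp]
    exact Category.comp_id _

theorem rmap_comp {T'' T' T : Over B} (g' : T'' ⟶ T') (g : T' ⟶ T) :
    rmap f E (g' ≫ g) = rmap f E g' ≫ rmap f E g := by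
  refine rext ?_ ?_
  · rw [rmap_π, Category.assoc, rmap_π, rmap_π]
  · rw [rmap_q, comp_top, Category.assoc, rmap_q, reassoc_of% (rmap_q f E g'), Over.comp_left]

theorem surj_rmap {T : Over B} (𝒰 : Cov T) (x : (RO f E T).Y) :
    ∃ i, x ∈ Set.range (rmap f E (𝒰.j i)).top := by
  obtain ⟨i, v, hv⟩ := 𝒰.covers (rq f E T x)
  obtain ⟨z, hz1, hz2⟩ := Scheme.Pullback.exists_preimage_pullback x v hv.symm
  refine ⟨i, (sq_rmap f E (𝒰.j i)).isoPullback.inv z, ?_⟩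
  rw [← Scheme.Hom.comp_apply, IsPullback.isoPullback_inv_fst, hz1]

theorem open_rmap {T : Over B} (𝒰 : Cov T) (i : 𝒰.ι) : IsOpenImmersion (rmap f E (𝒰.j i)).top :=
  MorphismProperty.of_isPullback (P := @IsOpenImmersion) (sq_rmap f E (𝒰.j i)).flip inferInstance

/-- The open cover of the base change. -/
def cover {T : Over B} (𝒰 : Cov T) : Scheme.OpenCover.{u} (RO f E T).Y where
  I₀ := 𝒰.ι
  X i := (RO f E (𝒰.V i)).Y
  f i := (rmap f E (𝒰.j i)).top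
  mem₀ := by
    rw [Scheme.presieve₀_mem_precoverage_iff]
    exact ⟨surj_rmap f E 𝒰, open_rmap f E 𝒰⟩

theorem cov_rmap {T : Over B} (𝒰 : Cov T) : Presieve.ofArrows (fun i => (RO f E (𝒰.V i)).Y)
    (fun i => (rmap f E (𝒰.j i)).top) ∈ Scheme.fpqcPrecoverage (RO f E T).Y := by
  refine Scheme.zariskiPrecoverage_le_fpqcPrecoverage _ ?_
  rw [Scheme.ofArrows_mem_precoverage_iff]
  exact ⟨surj_rmap f E 𝒰, open_rmap f E 𝒰⟩

/-- Morphisms out of the base change are determined locally on the base. -/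
theorem rsep (hE : Coh.IsQCoh E) {T : Over B} (𝒰 : Cov T) {A : LObj.{u}} {y y' : RO f E T ⟶ A}
    (h : ∀ i, rmap f E (𝒰.j i) ≫ y = rmap f E (𝒰.j i) ≫ y') : y = y' := by
  refine K927.En.sepL (A := RO f E T) (Groth.Agent.FormalA.PullbackQC.isQCoh_pullback _ _ hE) _
    (fun i => rmap f E (𝒰.j i)) (fun i => cart_rmap f E _) (cov_rmap f E 𝒰) ?_ h
  refine (cover f E 𝒰).hom_ext _ _ fun i => ?_
  exact congrArg LObj.Hom.top (h i)

/-- Two morphisms to base changes which agree come from a common base. -/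
theorem two_lift {T V V' : Over B} (j : V ⟶ T) (j' : V' ⟶ T) {y : LObj.{u}} (a' : y ⟶ RO f E V)
    (b' : y ⟶ RO f E V') (h : a' ≫ rmap f E j = b' ≫ rmap f E j') :
    ∃ (W : Over B) (a : W ⟶ V) (b : W ⟶ V') (m : y ⟶ RO f E W), a ≫ j = b ≫ j' ∧ m ≫ rmap f E a = a' ∧
      m ≫ rmap f E b = b' := by
  let W : Over B := Over.mk (pullback.fst j.left j'.left ≫ V.hom)
  have hW : pullback.snd j.left j'.left ≫ V'.hom = pullback.fst j.left j'.left ≫ V.hom := by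
    rw [← Over.w j, ← Over.w j', pullback.condition_assoc]
  let a : W ⟶ V := Over.homMk (pullback.fst j.left j'.left) rfl
  let b : W ⟶ V' := Over.homMk (pullback.snd j.left j'.left) hW
  have hab : a ≫ j = b ≫ j' := by
    ext1
    exact pullback.condition
  have h' : a'.top ≫ (rmap f E j).top = b'.top ≫ (rmap f E j').top := congrArg LObj.Hom.top h
  let c : y.Y ⟶ W.left := pullback.lift (a'.top ≫ rq f E V) (b'.top ≫ rq f E V') (by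
    rw [Category.assoc, ← rmap_q, reassoc_of% h', Category.assoc, rmap_q])
  have hc1 : c ≫ a.left = a'.top ≫ rq f E V := pullback.lift_fst _ _ _
  have hc2 : c ≫ b.left = b'.top ≫ rq f E V' := pullback.lift_snd _ _ _
  obtain ⟨m, hm1, hm2⟩ := rlift (f := f) (E := E) (T := W) (a' ≫ rπ f E V) c (by
    have h1 : (rπ f E V).top ≫ f = rq f E V ≫ V.hom := (sq_rπ f E V).w
    rw [comp_top, Category.assoc, h1, ← reassoc_of% hc1]
    rfl)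
  refine ⟨W, a, b, m, hab, ?_, ?_⟩
  · refine rext ?_ ?_
    · rw [Category.assoc, rmap_π, hm1]
    · rw [comp_top, Category.assoc, rmap_q, reassoc_of% hm2, hc1]
  · refine rext ?_ ?_
    · rw [Category.assoc, rmap_π, hm1, ← rmap_π f E j, reassoc_of% h, rmap_π]
    · rw [comp_top, Category.assoc, rmap_q, reassoc_of% hm2, hc2]

/-- Morphisms out of the base change glue locally on the base. -/
theorem rglue (hE : Coh.IsQCoh E) {T : Over B} (𝒰 : Cov T) {A : LObj.{u}} (x : ∀ i, RO f E (𝒰.V i) ⟶ A)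
    (h : ∀ (i k : 𝒰.ι) (W : Over B) (a : W ⟶ 𝒰.V i) (b : W ⟶ 𝒰.V k), a ≫ 𝒰.j i = b ≫ 𝒰.j k →
      rmap f E a ≫ x i = rmap f E b ≫ x k) : ∃ y : RO f E T ⟶ A, ∀ i, rmap f E (𝒰.j i) ≫ y = x i := by
  have H : ∀ (W : LObj.{u}) (i k : 𝒰.ι) (a : W ⟶ RO f E (𝒰.V i)) (b : W ⟶ RO f E (𝒰.V k)),
      a ≫ rmap f E (𝒰.j i) = b ≫ rmap f E (𝒰.j k) → a ≫ x i = b ≫ x k := by
    intro W i k a b hab
    obtain ⟨Z, a₁, b₁, m, h1, rfl, rfl⟩ := two_lift f E (𝒰.j i) (𝒰.j k) a b hab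
    rw [Category.assoc, h i k Z a₁ b₁ h1, Category.assoc]
  let t : (RO f E T).Y ⟶ A.Y := (cover f E 𝒰).glueMorphisms (fun i => (x i).top) (by
    intro i k
    let g := pullback.fst ((cover f E 𝒰).f i) ((cover f E 𝒰).f k)
    let g' := pullback.snd ((cover f E 𝒰).f i) ((cover f E 𝒰).f k)
    have hg : g ≫ (rmap f E (𝒰.j i)).top = g' ≫ (rmap f E (𝒰.j k)).top := pullback.condition
    let a := pbHom (RO f E (𝒰.V i)) g
    have ht : g' ≫ (rmap f E (𝒰.j k)).top = (a ≫ rmap f E (𝒰.j i)).top := hg.symm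
    have h2 := H _ i k a ((cart_rmap f E (𝒰.j k)).lift (a ≫ rmap f E (𝒰.j i)) g' ht) (by
      rw [Cart.lift_comp])
    have h3 := congrArg LObj.Hom.top h2
    rw [comp_top, comp_top, Cart.lift_top] at h3
    exact h3)
  have ht (i) : (rmap f E (𝒰.j i)).top ≫ t = (x i).top := (cover f E 𝒰).ι_glueMorphisms _ _ i
  obtain ⟨ψ, -, hψ⟩ := K927.En.exists_glueL (A := RO f E T) (B := A) (Groth.Agent.FormalA.PullbackQC.isQCoh_pullback _ _ hE) _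
    (fun i => rmap f E (𝒰.j i)) (fun i => cart_rmap f E _) (cov_rmap f E 𝒰) t x (fun i => (ht i).symm)
    (fun W i k a b _ _ hab => H W i k a b hab)
  exact ⟨ψ, hψ⟩

end RO

/-- Isomorphisms are cartesian. -/
theorem cart_of_iso {A B : LObj.{u}} (h : A ⟶ B) (k : B ⟶ A) (h1 : h ≫ k = 𝟙 _) (h2 : k ≫ h = 𝟙 _) : Cart h := by
  have c := cart_pbHom B h.top
  let u := c.lift h (𝟙 A.Y) (Category.id_comp _)
  have u1 : u.top = 𝟙 _ := c.lift_top _ _ _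
  have u2 : u ≫ pbHom B h.top = h := c.lift_comp _ _ _
  let v := pbHom B h.top ≫ k
  have v1 : v.top = 𝟙 _ := congrArg LObj.Hom.top h1
  have uv : u ≫ v = 𝟙 _ := by
    change u ≫ pbHom B h.top ≫ k = 𝟙 _
    rw [← Category.assoc, u2, h1]
  have vu : v ≫ u = 𝟙 _ := by
    refine c.hom_ext' ?_ ?_
    · rw [comp_top, u1, v1]
      exact Category.comp_id _
    · rw [Category.assoc, u2, Category.assoc, h2, Category.comp_id, Category.id_comp]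
  have hu : Cart u := K599.IsoRep.cart_of_inv (Y := A.Y) u v u1 v1 uv vu
  rw [← u2]
  exact hu.comp c

section can

variable {B X : Scheme.{u}} (f : X ⟶ B) (E : X.Modules)

/-- The comparison with another base change. -/
theorem exists_can (T : Over B) {y : LObj.{u}} {α : y ⟶ (⟨X, E⟩ : LObj.{u})} (hα : Cart α) {q : y.Y ⟶ T.left}
    (sq : IsPullback α.top q f T.hom) :
    ∃ (δ : RO f E T ⟶ y) (ε : y ⟶ RO f E T), δ ≫ ε = 𝟙 _ ∧ ε ≫ δ = 𝟙 _ ∧ δ ≫ α = rπ f E T ∧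
      δ.top ≫ q = rq f E T ∧ ε ≫ rπ f E T = α ∧ ε.top ≫ rq f E T = q := by
  obtain ⟨ε, ε1, ε2⟩ := rlift (f := f) (E := E) (T := T) α q sq.w
  obtain ⟨δ, ⟨δ1, δ2⟩, -⟩ := existsUnique_beta sq hα (rπ f E T) (sq_rπ f E T) (𝟙 T.left) (Category.id_comp _)
  rw [Category.comp_id] at δ2
  refine ⟨δ, ε, ?_, ?_, δ1, δ2, ε1, ε2⟩
  · refine rext ?_ ?_
    · rw [Category.assoc, ε1, δ1, Category.id_comp]
    · rw [comp_top, Category.assoc, ε2, δ2]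
      exact (Category.id_comp _).symm
  · refine hα.hom_ext' (sq.hom_ext ?_ ?_) ?_
    · rw [← comp_top, Category.assoc, δ1, ε1]
      exact (Category.id_comp _).symm
    · rw [comp_top, Category.assoc, δ2, ε2]
      exact (Category.id_comp _).symm
    · rw [Category.assoc, δ1, ε1, Category.id_comp]

end can

section F

variable {B X₁ X₂ : Scheme.{u}} (f₁ : X₁ ⟶ B) (f₂ : X₂ ⟶ B) (E₁ : X₁.Modules) (E₂ : X₂.Modules)

/-- `χ` induces an isomorphism over `T`, with inverse `k`. -/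
structure InvW {T : Over B} (χ : RO f₁ E₁ T ⟶ (⟨X₂, E₂⟩ : LObj.{u})) (h : RO f₁ E₁ T ⟶ RO f₂ E₂ T)
    (k : RO f₂ E₂ T ⟶ RO f₁ E₁ T) : Prop where
  hk : h ≫ k = 𝟙 _
  kh : k ≫ h = 𝟙 _
  hπ : h ≫ rπ f₂ E₂ T = χ
  hq : h.top ≫ rq f₂ E₂ T = rq f₁ E₁ T

/-- `χ` induces an isomorphism over `T`. -/
def Inv {T : Over B} (χ : RO f₁ E₁ T ⟶ (⟨X₂, E₂⟩ : LObj.{u})) : Prop := ∃ h k, InvW f₁ f₂ E₁ E₂ χ h k

variable {f₁ f₂ E₁ E₂}

theorem InvW.kq {T : Over B} {χ : RO f₁ E₁ T ⟶ (⟨X₂, E₂⟩ : LObj.{u})} {h : RO f₁ E₁ T ⟶ RO f₂ E₂ T}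
    {k : RO f₂ E₂ T ⟶ RO f₁ E₁ T} (H : InvW f₁ f₂ E₁ E₂ χ h k) : k.top ≫ rq f₁ E₁ T = rq f₂ E₂ T := by
  have h1 : k.top ≫ h.top = 𝟙 _ := congrArg LObj.Hom.top H.kh
  rw [← H.hq, reassoc_of% h1]

/-- Restriction of the isomorphism. -/
theorem InvW.rel {T' T : Over B} (g : T' ⟶ T) {χ : RO f₁ E₁ T ⟶ (⟨X₂, E₂⟩ : LObj.{u})}
    {χ' : RO f₁ E₁ T' ⟶ (⟨X₂, E₂⟩ : LObj.{u})} {h : RO f₁ E₁ T ⟶ RO f₂ E₂ T} {k : RO f₂ E₂ T ⟶ RO f₁ E₁ T}
    {h' : RO f₁ E₁ T' ⟶ RO f₂ E₂ T'} {k' : RO f₂ E₂ T' ⟶ RO f₁ E₁ T'} (H : InvW f₁ f₂ E₁ E₂ χ h k)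
    (H' : InvW f₁ f₂ E₁ E₂ χ' h' k') (e : rmap f₁ E₁ g ≫ χ = χ') :
    h' ≫ rmap f₂ E₂ g = rmap f₁ E₁ g ≫ h ∧ k' ≫ rmap f₁ E₁ g = rmap f₂ E₂ g ≫ k := by
  have key : h' ≫ rmap f₂ E₂ g = rmap f₁ E₁ g ≫ h := by
    refine rext ?_ ?_
    · rw [Category.assoc, rmap_π, H'.hπ, Category.assoc, H.hπ, e]
    · rw [comp_top, Category.assoc, rmap_q, ← Category.assoc, H'.hq, comp_top, Category.assoc, H.hq, rmap_q]
  refine ⟨key, ?_⟩
  have h1 : (k' ≫ rmap f₁ E₁ g) ≫ h = rmap f₂ E₂ g := by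
    rw [Category.assoc, ← key, ← Category.assoc, H'.kh, Category.id_comp]
  rw [← h1, Category.assoc, Category.assoc, H.hk, Category.comp_id]

theorem Inv.map {T' T : Over B} (g : T' ⟶ T) {χ : RO f₁ E₁ T ⟶ (⟨X₂, E₂⟩ : LObj.{u})} (H : Inv f₁ f₂ E₁ E₂ χ) :
    Inv f₁ f₂ E₁ E₂ (rmap f₁ E₁ g ≫ χ) := by
  obtain ⟨h, k, H⟩ := H
  obtain ⟨h', h1, h2⟩ := rlift (f := f₂) (E := E₂) (T := T') (rmap f₁ E₁ g ≫ χ) (rq f₁ E₁ T') (by
    have e1 : (rπ f₂ E₂ T).top ≫ f₂ = rq f₂ E₂ T ≫ T.hom := (sq_rπ f₂ E₂ T).w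
    rw [← H.hπ, comp_top, comp_top, Category.assoc, Category.assoc, e1, reassoc_of% H.hq, reassoc_of% (rmap_q f₁ E₁ g),
      Over.w g])
  obtain ⟨k', k1, k2⟩ := rlift (f := f₁) (E := E₁) (T := T') (rmap f₂ E₂ g ≫ k ≫ rπ f₁ E₁ T) (rq f₂ E₂ T') (by
    have e1 : (rπ f₁ E₁ T).top ≫ f₁ = rq f₁ E₁ T ≫ T.hom := (sq_rπ f₁ E₁ T).w
    rw [comp_top, comp_top, Category.assoc, Category.assoc, e1, reassoc_of% H.kq, reassoc_of% (rmap_q f₂ E₂ g),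
      Over.w g])
  have r1 : h' ≫ rmap f₂ E₂ g = rmap f₁ E₁ g ≫ h := by
    refine rext ?_ ?_
    · rw [Category.assoc, rmap_π, h1, Category.assoc, H.hπ]
    · rw [comp_top, Category.assoc, rmap_q, ← Category.assoc, h2, comp_top, Category.assoc, H.hq, rmap_q]
  have r2 : k' ≫ rmap f₁ E₁ g = rmap f₂ E₂ g ≫ k := by
    refine rext ?_ ?_
    · rw [Category.assoc, rmap_π, k1, Category.assoc]
    · rw [comp_top, Category.assoc, rmap_q, ← Category.assoc, k2, comp_top, Category.assoc, H.kq, rmap_q]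
  refine ⟨h', k', ?_, ?_, h1, h2⟩
  · refine rext ?_ ?_
    · rw [Category.assoc, k1, reassoc_of% r1, reassoc_of% H.hk, rmap_π, Category.id_comp]
    · rw [comp_top, Category.assoc, k2, h2]
      exact (Category.id_comp _).symm
  · refine rext ?_ ?_
    · rw [Category.assoc, h1, reassoc_of% r2, ← H.hπ, reassoc_of% H.kh, rmap_π, Category.id_comp]
    · rw [comp_top, Category.assoc, h2, k2]
      exact (Category.id_comp _).symm

variable (f₁ f₂ E₁ E₂)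

/-- The functor of isomorphisms. -/
def FF : (Over B)ᵒᵖ ⥤ Type u where
  obj T := {χ : RO f₁ E₁ T.unop ⟶ (⟨X₂, E₂⟩ : LObj.{u}) // Inv f₁ f₂ E₁ E₂ χ}
  map g := ↾(fun χ => ⟨rmap f₁ E₁ g.unop ≫ χ.1, χ.2.map g.unop⟩)
  map_id T := by
    ext χ
    change rmap f₁ E₁ (𝟙 _) ≫ χ.1 = χ.1
    rw [rmap_id, Category.id_comp]
  map_comp g g' := by
    ext χ
    change rmap f₁ E₁ (g'.unop ≫ g.unop) ≫ χ.1 = rmap f₁ E₁ g'.unop ≫ rmap f₁ E₁ g.unop ≫ χ.1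
    rw [rmap_comp, Category.assoc]

theorem FF_map {T' T : Over B} (g : T' ⟶ T) (χ : (FF f₁ f₂ E₁ E₂).obj (op T)) :
    ((FF f₁ f₂ E₁ E₂).map g.op χ).1 = rmap f₁ E₁ g ≫ χ.1 := rfl

theorem isZarSheaf (hE₁ : Coh.IsQCoh E₁) (hE₂ : Coh.IsQCoh E₂) : IsZarSheaf (FF f₁ f₂ E₁ E₂) := by
  intro T 𝒰 x hx
  have hx' : ∀ (i k : 𝒰.ι) (W : Over B) (a : W ⟶ 𝒰.V i) (b : W ⟶ 𝒰.V k), a ≫ 𝒰.j i = b ≫ 𝒰.j k →
      rmap f₁ E₁ a ≫ (x i).1 = rmap f₁ E₁ b ≫ (x k).1 :=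
    fun i k W a b hab => congrArg Subtype.val (hx i k W a b hab)
  obtain ⟨y, hy⟩ := rglue f₁ E₁ hE₁ 𝒰 (fun i => (x i).1) hx'
  choose h k H using fun i => (x i).2
  -- the inverse
  obtain ⟨K, hK⟩ := rglue f₂ E₂ hE₂ 𝒰 (fun i => k i ≫ rmap f₁ E₁ (𝒰.j i)) (by
    intro i l W a b hab
    obtain ⟨h', k', H'⟩ := ((x i).2.map a)
    have e1 := ((H i).rel a H' rfl).2
    have e2 := ((H l).rel b H' (hx' i l W a b hab).symm).2
    rw [← reassoc_of% e1, ← reassoc_of% e2, ← rmap_comp, ← rmap_comp, hab])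
  have hyq : y.top ≫ f₂ = rq f₁ E₁ T ≫ T.hom := by
    refine (cover f₁ E₁ 𝒰).hom_ext _ _ fun i => ?_
    change (rmap f₁ E₁ (𝒰.j i)).top ≫ y.top ≫ f₂ = (rmap f₁ E₁ (𝒰.j i)).top ≫ rq f₁ E₁ T ≫ T.hom
    have e0 : (rmap f₁ E₁ (𝒰.j i)).top ≫ y.top = (x i).1.top := congrArg LObj.Hom.top (hy i)
    have e1 : (rπ f₂ E₂ (𝒰.V i)).top ≫ f₂ = rq f₂ E₂ (𝒰.V i) ≫ (𝒰.V i).hom := (sq_rπ f₂ E₂ _).w
    rw [reassoc_of% e0, ← (H i).hπ, comp_top, Category.assoc, e1, reassoc_of% (H i).hq,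
      reassoc_of% (rmap_q f₁ E₁ (𝒰.j i)), Over.w (𝒰.j i)]
  obtain ⟨g, g1, g2⟩ := rlift (f := f₂) (E := E₂) (T := T) y (rq f₁ E₁ T) hyq
  have r (i) : rmap f₁ E₁ (𝒰.j i) ≫ g = h i ≫ rmap f₂ E₂ (𝒰.j i) := by
    refine rext ?_ ?_
    · rw [Category.assoc, g1, hy, Category.assoc, rmap_π, (H i).hπ]
    · rw [comp_top, Category.assoc, g2, comp_top, Category.assoc, rmap_q, rmap_q, reassoc_of% (H i).hq]
  have hI : Inv f₁ f₂ E₁ E₂ y := by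
    refine ⟨g, K, ?_, ?_, g1, g2⟩
    · refine rsep f₁ E₁ hE₁ 𝒰 fun i => ?_
      rw [← Category.assoc, r, Category.assoc, hK, ← Category.assoc, (H i).hk, Category.id_comp, Category.comp_id]
    · refine rsep f₂ E₂ hE₂ 𝒰 fun i => ?_
      rw [← Category.assoc, hK, Category.assoc, r, ← Category.assoc, (H i).kh, Category.id_comp, Category.comp_id]
  refine ⟨⟨y, hI⟩, fun i => Subtype.ext (hy i), ?_⟩
  rintro ⟨y', hy'⟩ hyy
  apply Subtype.ext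
  refine rsep f₁ E₁ hE₁ 𝒰 fun i => ?_
  rw [hy i]
  exact congrArg Subtype.val (hyy i)

end F

section main

variable {B X₁ X₂ : Scheme.{u}} {f₁ : X₁ ⟶ B} {f₂ : X₂ ⟶ B} {E₁ : X₁.Modules} {E₂ : X₂.Modules}

/-- The isomorphism given by an element of the functor. -/
def ofElt {T : Over B} {χ : RO f₁ E₁ T ⟶ (⟨X₂, E₂⟩ : LObj.{u})} (H : Inv f₁ f₂ E₁ E₂ χ) :
    IsoPt f₁ f₂ E₁ E₂ T.hom where
  y := RO f₁ E₁ T
  q := rq f₁ E₁ T
  α₁ := rπ f₁ E₁ T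
  α₂ := χ
  cart₁ := cart_rπ f₁ E₁ T
  cart₂ := by
    obtain ⟨h, k, H⟩ := H
    rw [← H.hπ]
    exact (cart_of_iso h k H.hk H.kh).comp (cart_rπ f₂ E₂ T)
  sq₁ := sq_rπ f₁ E₁ T
  sq₂ := by
    obtain ⟨h, k, H⟩ := H
    have h1 : h.top ≫ k.top = 𝟙 _ := congrArg LObj.Hom.top H.hk
    have h2 : k.top ≫ h.top = 𝟙 _ := congrArg LObj.Hom.top H.kh
    let e : (RO f₁ E₁ T).Y ≅ (RO f₂ E₂ T).Y := ⟨h.top, k.top, h1, h2⟩
    have h3 : h.top ≫ (rπ f₂ E₂ T).top = χ.top := congrArg LObj.Hom.top H.hπ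
    refine (sq_rπ f₂ E₂ T).of_iso e.symm (Iso.refl _) (Iso.refl _) (Iso.refl _) ?_ ?_ ?_ ?_
    · change _ ≫ 𝟙 _ = k.top ≫ χ.top
      rw [Category.comp_id, ← h3, reassoc_of% h2]
    · change _ ≫ 𝟙 _ = k.top ≫ rq f₁ E₁ T
      rw [Category.comp_id, H.kq]
    · simp
    · simp

/-- The comparison of `s` with the standard base change. -/
structure Can {T : Over B} (s : IsoPt f₁ f₂ E₁ E₂ T.hom) (δ : RO f₁ E₁ T ⟶ s.y) (ε : s.y ⟶ RO f₁ E₁ T) : Prop where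
  δε : δ ≫ ε = 𝟙 _
  εδ : ε ≫ δ = 𝟙 _
  δπ : δ ≫ s.α₁ = rπ f₁ E₁ T
  δq : δ.top ≫ s.q = rq f₁ E₁ T
  επ : ε ≫ rπ f₁ E₁ T = s.α₁
  εq : ε.top ≫ rq f₁ E₁ T = s.q
  inv : Inv f₁ f₂ E₁ E₂ (δ ≫ s.α₂)

theorem exists_Can {T : Over B} (s : IsoPt f₁ f₂ E₁ E₂ T.hom) : ∃ δ ε, Can s δ ε := by
  obtain ⟨δ₁, ε₁, a1, a2, a3, a4, a5, a6⟩ := exists_can f₁ E₁ T s.cart₁ s.sq₁
  obtain ⟨δ₂, ε₂, b1, b2, b3, b4, b5, b6⟩ := exists_can f₂ E₂ T s.cart₂ s.sq₂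
  refine ⟨δ₁, ε₁, a1, a2, a3, a4, a5, a6, δ₁ ≫ ε₂, δ₂ ≫ ε₁, ?_, ?_, ?_, ?_⟩
  · rw [Category.assoc, reassoc_of% b2, a1]
  · rw [Category.assoc, reassoc_of% a2, b1]
  · rw [Category.assoc, b5]
  · rw [comp_top, Category.assoc, b6, a4]

theorem can_ofElt {T : Over B} {χ : RO f₁ E₁ T ⟶ (⟨X₂, E₂⟩ : LObj.{u})} (H : Inv f₁ f₂ E₁ E₂ χ) :
    Can (ofElt H) (𝟙 _) (𝟙 _) where
  δε := Category.id_comp _
  εδ := Category.id_comp _
  δπ := Category.id_comp _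
  δq := Category.id_comp _
  επ := Category.id_comp _
  εq := Category.id_comp _
  inv := by rw [Category.id_comp]; exact H

theorem rel_iff {T T' : Over B} (g : T' ⟶ T) {s : IsoPt f₁ f₂ E₁ E₂ T.hom} {s' : IsoPt f₁ f₂ E₁ E₂ T'.hom}
    {δ : RO f₁ E₁ T ⟶ s.y} {ε : s.y ⟶ RO f₁ E₁ T} {δ' : RO f₁ E₁ T' ⟶ s'.y} {ε' : s'.y ⟶ RO f₁ E₁ T'}
    (H : Can s δ ε) (H' : Can s' δ' ε') :
    s.Rel s' g.left ↔ rmap f₁ E₁ g ≫ δ ≫ s.α₂ = δ' ≫ s'.α₂ := by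
  constructor
  · rintro ⟨β, h1, h2, h3⟩
    have key : δ' ≫ β = rmap f₁ E₁ g ≫ δ := by
      refine s.cart₁.hom_ext' (s.sq₁.hom_ext ?_ ?_) ?_
      · rw [← comp_top, ← comp_top, Category.assoc, h1, H'.δπ, Category.assoc, H.δπ, rmap_π]
      · rw [comp_top, Category.assoc, h3, reassoc_of% H'.δq, comp_top, Category.assoc, H.δq, rmap_q]
      · rw [Category.assoc, h1, H'.δπ, Category.assoc, H.δπ, rmap_π]
    rw [← Category.assoc, ← key, Category.assoc, h2]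
  · intro h
    refine ⟨ε' ≫ rmap f₁ E₁ g ≫ δ, ?_, ?_, ?_⟩
    · rw [Category.assoc, Category.assoc, H.δπ, rmap_π, H'.επ]
    · rw [Category.assoc, Category.assoc, h, reassoc_of% H'.εδ]
    · rw [comp_top, comp_top, Category.assoc, Category.assoc, H.δq, rmap_q, reassoc_of% H'.εq]

open Groth.Agent.Desc.ZarGlue Groth.Agent.Desc.SecFunctor in
/-- **Gluing universal isomorphisms over the base.** -/
theorem exists_glue (hE₁ : Coh.IsQCoh E₁) (hE₂ : Coh.IsQCoh E₂) (P : MorphismProperty Scheme.{u})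
    [IsZariskiLocalAtTarget P] (H : ∀ z : B, ∃ U : B.Opens, z ∈ U ∧ ∃ (W : Scheme.{u}) (w : W ⟶ U)
      (s : IsoPt f₁ f₂ E₁ E₂ (w ≫ U.ι)), P w ∧ ∀ (T : Scheme.{u}) (u : T ⟶ U) (s' : IsoPt f₁ f₂ E₁ E₂ (u ≫ U.ι)),
        ∃! t : T ⟶ W, t ≫ w = u ∧ s.Rel s' t) :
    ∃ (W : Scheme.{u}) (w : W ⟶ B) (s : IsoPt f₁ f₂ E₁ E₂ w), s.IsUniv ∧ P w := by
  choose U hU W w s hP hs using H
  have hrep : ∀ z, Nonempty ((restr (U z).ι (FF f₁ f₂ E₁ E₂)).RepresentableBy (Over.mk (w z))) := by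
    intro z
    let W' : Over B := (Over.map (U z).ι).obj (Over.mk (w z))
    let s₀ : IsoPt f₁ f₂ E₁ E₂ W'.hom := s z
    obtain ⟨δ, ε, hδ⟩ := exists_Can s₀
    refine ⟨repOfUniversal (F := restr (U z).ι (FF f₁ f₂ E₁ E₂))
      (H := Over.mk (w z)) (⟨δ ≫ s₀.α₂, hδ.inv⟩ : (FF f₁ f₂ E₁ E₂).obj (op W')) ?_⟩
    intro T x
    let T' : Over B := (Over.map (U z).ι).obj T
    let x' : (FF f₁ f₂ E₁ E₂).obj (op T') := x
    let s' : IsoPt f₁ f₂ E₁ E₂ T'.hom := ofElt x'.2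
    have hs' : Can s' (𝟙 _) (𝟙 _) := can_ofElt x'.2
    obtain ⟨t, ⟨ht1, ht2⟩, ht3⟩ := hs z T.left T.hom s'
    have key (g : T ⟶ Over.mk (w z)) : s₀.Rel s' g.left ↔
        (restr (U z).ι (FF f₁ f₂ E₁ E₂)).map g.op (⟨δ ≫ s₀.α₂, hδ.inv⟩ : (FF f₁ f₂ E₁ E₂).obj (op W')) = x := by
      refine (rel_iff ((Over.map (U z).ι).map g) hδ hs').trans ?_
      constructor
      · intro h
        apply Subtype.ext
        exact h.trans (Category.id_comp _)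
      · intro h
        exact (congrArg Subtype.val h).trans (Category.id_comp _).symm
    refine ⟨Over.homMk t ht1, (key _).1 ht2, ?_⟩
    intro g hg
    ext1
    exact ht3 g.left ⟨Over.w g, (key g).2 hg⟩
  obtain ⟨H, hPH, ⟨r⟩⟩ := exists_rep_of_openCover_prop U (fun z => ⟨z, hU z⟩) _ (fun z => (hrep z).some)
    (isZarSheaf f₁ f₂ E₁ E₂ hE₁ hE₂) P hP
  let Z : (FF f₁ f₂ E₁ E₂).obj (op H) := r.homEquiv (𝟙 H)
  refine ⟨H.left, H.hom, ofElt Z.2, ?_, hPH⟩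
  intro T u s'
  let T' : Over B := Over.mk u
  let s₁ : IsoPt f₁ f₂ E₁ E₂ T'.hom := s'
  obtain ⟨δ, ε, hδ⟩ := exists_Can s₁
  have hZ : Can (ofElt Z.2) (𝟙 _) (𝟙 _) := can_ofElt Z.2
  have key (g : T' ⟶ H) : (ofElt Z.2).Rel s₁ g.left ↔ r.homEquiv g = ⟨δ ≫ s₁.α₂, hδ.inv⟩ := by
    have h1 : r.homEquiv g = (FF f₁ f₂ E₁ E₂).map g.op Z := by
      have := r.homEquiv_comp g (𝟙 H)
      rwa [Category.comp_id] at this
    rw [h1]
    refine (rel_iff g hZ hδ).trans ?_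
    have h2 : 𝟙 (RO f₁ E₁ H) ≫ (ofElt Z.2).α₂ = Z.1 := Category.id_comp _
    constructor
    · intro h
      apply Subtype.ext
      refine Eq.trans ?_ h
      exact congrArg (rmap f₁ E₁ g ≫ ·) h2.symm
    · intro h
      refine Eq.trans ?_ (congrArg Subtype.val h)
      exact congrArg (rmap f₁ E₁ g ≫ ·) h2
  let t : T' ⟶ H := r.homEquiv.symm ⟨δ ≫ s₁.α₂, hδ.inv⟩
  refine ⟨t.left, ⟨Over.w t, (key t).2 (r.homEquiv.apply_symm_apply _)⟩, ?_⟩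
  rintro t' ⟨h1, h2⟩
  let g : T' ⟶ H := Over.homMk t' h1
  have h3 : r.homEquiv g = r.homEquiv t := ((key g).1 h2).trans (r.homEquiv.apply_symm_apply _).symm
  exact congrArg (fun g : T' ⟶ H => g.left) (r.homEquiv.injective h3)

end main

end K996.GlueB
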