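import Groth.Agent.AlgSt.K748.SchP
import Groth.Agent.VecBal.K996.FamL

/-!
# The diagonal of a category of families of schemes with a module

`IsoPt f₁ f₂ E₁ E₂ u`: an isomorphism `(X₁, E₁)_T ≅ (X₂, E₂)_T` over `u : T ⟶ B`, as a scheme with a module and two
cartesian morphisms.  `repByAlgSpWith_diag`: if for all objects the functor of such isomorphisms is representable
(with `Q`), then the diagonal of the full subcategory of `VecSt.Fam S 0` is representable (with `Q`).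
-/

set_option autoImplicit false
set_option backward.isDefEq.respectTransparency false
set_option backward.isDefEq.respectTransparency.types false

universe w v u

open CategoryTheory CategoryTheory.Limits AlgebraicGeometry Opposite

noncomputable section

namespace K996.Trans

open K599.LMod K996.FamL K735.Fib K735.Fp K748.El

/-- A presheaf with a universal element. -/
theorem schP_of_univ {S : Scheme.{u}} {Q : MorphismProperty Scheme.{u}} {B : Over S} {G : AlgSp.PSp S}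
    (q : G ⟶ (AlgSp.pyon S).obj B) {W : Over S} (w : W ⟶ B) (σ : G.obj (op W)) (hσ : q.app _ σ = ⟨w⟩)
    (huniv : ∀ (T : Over S) (s : G.obj (op T)), ∃! t : T ⟶ W, G.map t.op σ = s) (hw : Q w.left) : SchP Q q := by
  have hbij : ∀ T : Over S, Function.Bijective (fun t : ULift.{u + 1} (T ⟶ W) => G.map t.down.op σ) := by
    intro T
    constructor
    · rintro ⟨t⟩ ⟨t'⟩ h
      exact congrArg ULift.up ((huniv T (G.map t'.op σ)).unique h rfl)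
    · intro s
      obtain ⟨t, ht, -⟩ := huniv T s
      exact ⟨⟨t⟩, ht⟩
  let e : (AlgSp.pyon S).obj W ≅ G := NatIso.ofComponents
    (fun T => (Equiv.ofBijective _ (hbij T.unop)).toIso) (fun {T T'} t => by
      ext ⟨s⟩
      change G.map (t.unop ≫ s).op σ = G.map t (G.map s.op σ)
      rw [op_comp, Functor.map_comp_apply]
      rfl)
  refine ⟨W, w, e, ?_, hw⟩
  ext T ⟨s⟩
  change q.app _ (G.map s.op σ) = ⟨s ≫ w⟩
  have h1 := congrArg (fun m => m σ) (q.naturality s.op)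
  change q.app _ (G.map s.op σ) = ((AlgSp.pyon S).obj B).map s.op (q.app _ σ) at h1
  rw [h1, hσ]
  rfl

section Pt

variable {X₁ X₂ B : Scheme.{u}}

/-- An isomorphism of the base changes of `(X₁, E₁)` and `(X₂, E₂)` along `u : T ⟶ B`. -/
structure IsoPt (f₁ : X₁ ⟶ B) (f₂ : X₂ ⟶ B) (E₁ : X₁.Modules) (E₂ : X₂.Modules) {T : Scheme.{u}} (u : T ⟶ B) where
  y : LObj.{u}
  q : y.Y ⟶ T
  α₁ : y ⟶ ⟨X₁, E₁⟩
  α₂ : y ⟶ ⟨X₂, E₂⟩
  cart₁ : Cart α₁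
  cart₂ : Cart α₂
  sq₁ : IsPullback α₁.top q f₁ u
  sq₂ : IsPullback α₂.top q f₂ u

variable {f₁ : X₁ ⟶ B} {f₂ : X₂ ⟶ B} {E₁ : X₁.Modules} {E₂ : X₂.Modules}

/-- `s'` is the restriction of `s` along `t`. -/
def IsoPt.Rel {T T' : Scheme.{u}} {u : T ⟶ B} {u' : T' ⟶ B} (s : IsoPt f₁ f₂ E₁ E₂ u)
    (s' : IsoPt f₁ f₂ E₁ E₂ u') (t : T' ⟶ T) : Prop :=
  ∃ β : s'.y ⟶ s.y, β ≫ s.α₁ = s'.α₁ ∧ β ≫ s.α₂ = s'.α₂ ∧ β.top ≫ s.q = s'.q ≫ t

/-- A universal isomorphism. -/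
def IsoPt.IsUniv {W : Scheme.{u}} {w : W ⟶ B} (s : IsoPt f₁ f₂ E₁ E₂ w) : Prop :=
  ∀ ⦃T : Scheme.{u}⦄ (u : T ⟶ B) (s' : IsoPt f₁ f₂ E₁ E₂ u), ∃! t : T ⟶ W, t ≫ w = u ∧ s.Rel s' t

end Pt

variable {S : Scheme.{u}}

/-- The structure morphism to a given base. -/
def str (A : VecSt.Obj S 0) {T : Over S} (h : A.base = T) : A.C ⟶ T.left := A.f ≫ (eqToHom h).left

theorem str_rfl (A : VecSt.Obj S 0) : str A rfl = A.f := Category.comp_id _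

theorem isPullback_of_isHomLift {A A' : VecSt.Obj S 0} {T T' : Over S} (h : A.base = T) (h' : A'.base = T')
    (b : T ⟶ T') (φ : A ⟶ A') (hφ : (VecSt.Fam S 0).p.IsHomLift b φ) :
    IsPullback φ.hom.top (str A h) (str A' h') b.left := by
  subst h h'
  have h1 := IsHomLift.eq_of_isHomLift (p := (VecSt.Fam S 0).p) b φ
  subst h1
  rw [str_rfl, str_rfl]
  exact φ.hom.cart

theorem eq_of_toL {A A' : VecSt.Obj S 0} {T T' : Over S} (b : T ⟶ T') (φ φ' : A ⟶ A')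
    (hφ : (VecSt.Fam S 0).p.IsHomLift b φ) (hφ' : (VecSt.Fam S 0).p.IsHomLift b φ')
    (h : toL.map φ = toL.map φ') : φ = φ' := by
  have hA : A.base = T := IsHomLift.domain_eq (VecSt.Fam S 0).p b φ
  have hA' : A'.base = T' := IsHomLift.codomain_eq (VecSt.Fam S 0).p b φ
  subst hA hA'
  have h1 := IsHomLift.eq_of_isHomLift (p := (VecSt.Fam S 0).p) b φ
  have h2 := IsHomLift.eq_of_isHomLift (p := (VecSt.Fam S 0).p) b φ'
  exact hom_ext' (h1.symm.trans h2) h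

theorem exists_hom {A A' : VecSt.Obj S 0} {T T' : Over S} (h : A.base = T) (h' : A'.base = T')
    (b : T ⟶ T') (χ : toL.obj A ⟶ toL.obj A') (hχ : Cart χ) (sq : IsPullback χ.top (str A h) (str A' h') b.left) :
    ∃ φ : A ⟶ A', (VecSt.Fam S 0).p.IsHomLift b φ ∧ toL.map φ = χ := by
  subst h h'
  rw [str_rfl, str_rfl] at sq
  let φ : A ⟶ A' := ⟨⟨b, χ.top, sq, fun i => i.elim0⟩, χ.c, hχ⟩
  exact ⟨φ, IsHomLift.map (VecSt.Fam S 0).p φ, rfl⟩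

section Main

variable {Q₀ : VecSt.Obj S 0 → Prop} {B : Over S} (x x₁ x₂ : FibCat.overCat B ⥤ᵇ AlgSt.fullSub (VecSt.Fam S 0) Q₀)

/-- The object over `u`. -/
abbrev O {T : Over S} (u : T ⟶ B) : VecSt.Obj S 0 := (x.obj (K739.Isom.pt u)).obj

theorem O_base {T : Over S} (u : T ⟶ B) : (O x u).base = T := x.w_obj (K739.Isom.pt u)

/-- The restriction morphism. -/
def res {T T' : Over S} {u : T ⟶ B} {u' : T' ⟶ B} (t : T' ⟶ T) (h : t ≫ u = u') : O x u' ⟶ O x u :=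
  (x.map (K739.Isom.arr t h)).hom

theorem isHomLift_res {T T' : Over S} {u : T ⟶ B} {u' : T' ⟶ B} (t : T' ⟶ T) (h : t ≫ u = u') :
    (VecSt.Fam S 0).p.IsHomLift t (res x t h) := by
  have h1 : (FibCat.overCat B).p.IsHomLift t (K739.Isom.arr t h) :=
    IsHomLift.map (FibCat.overCat B).p (K739.Isom.arr t h)
  have h2 : (AlgSt.fullSub (VecSt.Fam S 0) Q₀).p.IsHomLift t (x.map (K739.Isom.arr t h)) :=
    BasedFunctor.preserves_isHomLift x _ _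
  exact (K899.OpenCrit.isHomLift_iff _ _).1 h2

theorem res_comp {T T' T'' : Over S} {u : T ⟶ B} {u' : T' ⟶ B} {u'' : T'' ⟶ B} (t : T' ⟶ T) (h : t ≫ u = u')
    (t' : T'' ⟶ T') (h' : t' ≫ u' = u'') (h'' : (t' ≫ t) ≫ u = u'') :
    res x t' h' ≫ res x t h = res x (t' ≫ t) h'' := by
  have h1 : K739.Isom.arr (t' ≫ t) h'' = K739.Isom.arr t' h' ≫ K739.Isom.arr t h := by
    apply Over.OverMorphism.ext
    rfl
  unfold res
  rw [h1]
  erw [x.map_comp]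
  rfl

/-- The restriction of the object over `𝟙 B`. -/
def toOne {T : Over S} (u : T ⟶ B) : O x u ⟶ O x (𝟙 B) := res x u (Category.comp_id u)

theorem res_toOne {T T' : Over S} {u : T ⟶ B} {u' : T' ⟶ B} (t : T' ⟶ T) (h : t ≫ u = u') :
    res x t h ≫ toOne x u = toOne x u' := by
  subst h
  exact res_comp x u _ t rfl _

theorem isHomLift_toOne {T : Over S} (u : T ⟶ B) : (VecSt.Fam S 0).p.IsHomLift u (toOne x u) :=
  isHomLift_res x u _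

/-- The point of a section. -/
def ptOf {T : Over S} (u : T ⟶ B) (ψ : O x₁ u ⟶ O x₂ u) (hψ : (VecSt.Fam S 0).p.IsHomLift (𝟙 T) ψ) :
    IsoPt (str (O x₁ (𝟙 B)) (O_base x₁ (𝟙 B))) (str (O x₂ (𝟙 B)) (O_base x₂ (𝟙 B))) (O x₁ (𝟙 B)).E
      (O x₂ (𝟙 B)).E u.left where
  y := toL.obj (O x₁ u)
  q := str (O x₁ u) (O_base x₁ u)
  α₁ := toL.map (toOne x₁ u)
  α₂ := toL.map (ψ ≫ toOne x₂ u)
  cart₁ := cart_toL _
  cart₂ := cart_toL _
  sq₁ := isPullback_of_isHomLift (O_base x₁ u) (O_base x₁ (𝟙 B)) u (toOne x₁ u) (isHomLift_toOne x₁ u)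
  sq₂ := isPullback_of_isHomLift (O_base x₁ u) (O_base x₂ (𝟙 B)) u (ψ ≫ toOne x₂ u) (by
    have h1 := isHomLift_toOne x₂ u
    have h2 : (VecSt.Fam S 0).p.IsHomLift (𝟙 T ≫ u) (ψ ≫ toOne x₂ u) := inferInstance
    rwa [Category.id_comp] at h2)

theorem base_eq_of_lift {A A' : VecSt.Obj S 0} {T T' : Over S} (b : T ⟶ T') (φ φ' : A ⟶ A')
    (hφ : (VecSt.Fam S 0).p.IsHomLift b φ) (hφ' : (VecSt.Fam S 0).p.IsHomLift b φ') : φ.hom.base = φ'.hom.base := by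
  have hA : A.base = T := IsHomLift.domain_eq (VecSt.Fam S 0).p b φ
  have hA' : A'.base = T' := IsHomLift.codomain_eq (VecSt.Fam S 0).p b φ
  subst hA hA'
  have h1 := IsHomLift.eq_of_isHomLift (p := (VecSt.Fam S 0).p) b φ
  have h2 := IsHomLift.eq_of_isHomLift (p := (VecSt.Fam S 0).p) b φ'
  exact h1.symm.trans h2

theorem cancel {A A' A'' : VecSt.Obj S 0} {T T' : Over S} (b : T ⟶ T') (φ φ' : A ⟶ A')
    (hφ : (VecSt.Fam S 0).p.IsHomLift b φ) (hφ' : (VecSt.Fam S 0).p.IsHomLift b φ') (μ : A' ⟶ A'')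
    (h : φ ≫ μ = φ' ≫ μ) : φ = φ' :=
  (existsUnique_fac μ (φ' ≫ μ) φ'.hom.base rfl).unique ⟨base_eq_of_lift b φ φ' hφ hφ', h⟩ ⟨rfl, rfl⟩

/-- Every point comes from a section. -/
theorem exists_ptOf {T : Over S} (u : T ⟶ B)
    (p : IsoPt (str (O x₁ (𝟙 B)) (O_base x₁ (𝟙 B))) (str (O x₂ (𝟙 B)) (O_base x₂ (𝟙 B))) (O x₁ (𝟙 B)).E
      (O x₂ (𝟙 B)).E u.left) :
    ∃ (ψ : O x₁ u ⟶ O x₂ u) (hψ : (VecSt.Fam S 0).p.IsHomLift (𝟙 T) ψ), p.Rel (ptOf x₁ x₂ u ψ hψ) (𝟙 T.left) := by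
  have hsq : IsPullback (toL.map (toOne x₁ u)).top (str (O x₁ u) (O_base x₁ u))
      (str (O x₁ (𝟙 B)) (O_base x₁ (𝟙 B))) u.left :=
    isPullback_of_isHomLift (O_base x₁ u) (O_base x₁ (𝟙 B)) u (toOne x₁ u) (isHomLift_toOne x₁ u)
  obtain ⟨t, ht1, ht2⟩ : ∃ t : (O x₁ u).C ⟶ p.y.Y, t ≫ p.α₁.top = (toL.map (toOne x₁ u)).top ∧
      t ≫ p.q = str (O x₁ u) (O_base x₁ u) :=
    ⟨p.sq₁.lift _ _ hsq.w, p.sq₁.lift_fst _ _ _, p.sq₁.lift_snd _ _ _⟩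
  obtain ⟨θ, ⟨h1, h2⟩, -⟩ := p.cart₁.existsUnique_lift (toL.map (toOne x₁ u)) t ht1
  have hθ : Cart θ := p.cart₁.of_comp (by rw [h2]; exact cart_toL _)
  have hsq1 : IsPullback t (str (O x₁ u) (O_base x₁ u)) p.q (𝟙 T.left) := by
    refine IsPullback.of_right ?_ (by rw [ht2, Category.comp_id]) p.sq₁
    rw [ht1, Category.id_comp]
    exact hsq
  have hsq2 : IsPullback (θ ≫ p.α₂).top (str (O x₁ u) (O_base x₁ u))
      (str (O x₂ (𝟙 B)) (O_base x₂ (𝟙 B))) u.left := by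
    have h3 := hsq1.paste_horiz p.sq₂
    rw [Category.id_comp, ← h1] at h3
    exact h3
  obtain ⟨φ, hφ1, hφ2⟩ := exists_hom (O_base x₁ u) (O_base x₂ (𝟙 B)) u (θ ≫ p.α₂) (hθ.comp p.cart₂) hsq2
  have h4 := isHomLift_toOne x₂ u
  have hg := isFibGrpd_fam (S := S)
  have h5 : (VecSt.Fam S 0).p.IsHomLift (𝟙 T ≫ u) φ := by
    rw [Category.id_comp]
    exact hφ1
  obtain ⟨ψ, hψ1, hψ2⟩ := K739.Psh.exists_fac hg u (toOne x₂ u) (𝟙 T) φ h5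
  refine ⟨ψ, hψ1, θ, h2, ?_, ?_⟩
  · change θ ≫ p.α₂ = toL.map (ψ ≫ toOne x₂ u)
    rw [hψ2, hφ2]
  · rw [Category.comp_id, h1]
    exact ht2

theorem IsoPt.Rel.unique_beta {X₁ X₂ B : Scheme.{u}} {f₁ : X₁ ⟶ B} {f₂ : X₂ ⟶ B} {E₁ : X₁.Modules} {E₂ : X₂.Modules}
    {T T' : Scheme.{u}} {u : T ⟶ B} {u' : T' ⟶ B} {s : IsoPt f₁ f₂ E₁ E₂ u}
    {s' : IsoPt f₁ f₂ E₁ E₂ u'} {t : T' ⟶ T} (h : s.Rel s' t) (β : s'.y ⟶ s.y) (h1 : β ≫ s.α₁ = s'.α₁)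
    (h2 : β.top ≫ s.q = s'.q ≫ t) : β ≫ s.α₂ = s'.α₂ := by
  obtain ⟨β', h3, h4, h5⟩ := h
  have : β = β' := by
    have ht : β.top = β'.top := by
      apply s.sq₁.hom_ext
      · exact (congrArg LObj.Hom.top h1).trans (congrArg LObj.Hom.top h3).symm
      · rw [h2, h5]
    exact s.cart₁.hom_ext' ht (h1.trans h3.symm)
  rw [this, h4]

/-- Restriction of sections and restriction of points. -/
theorem res_iff {T T' : Over S} {u : T ⟶ B} {u' : T' ⟶ B} (t : T' ⟶ T) (h : t ≫ u = u')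
    (p : IsoPt (str (O x₁ (𝟙 B)) (O_base x₁ (𝟙 B))) (str (O x₂ (𝟙 B)) (O_base x₂ (𝟙 B))) (O x₁ (𝟙 B)).E
      (O x₂ (𝟙 B)).E u.left) (ψ : O x₁ u ⟶ O x₂ u) (hψ : (VecSt.Fam S 0).p.IsHomLift (𝟙 T) ψ)
    (hp : p.Rel (ptOf x₁ x₂ u ψ hψ) (𝟙 T.left)) (ψ' : O x₁ u' ⟶ O x₂ u')
    (hψ' : (VecSt.Fam S 0).p.IsHomLift (𝟙 T') ψ') :
    res x₁ t h ≫ ψ = ψ' ≫ res x₂ t h ↔ p.Rel (ptOf x₁ x₂ u' ψ' hψ') t.left := by
  obtain ⟨θ, h1, h2, h3⟩ := hp
  have hsq := isPullback_of_isHomLift (O_base x₁ u') (O_base x₁ u) t (res x₁ t h) (isHomLift_res x₁ t h)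
  have k1 : (toL.map (res x₁ t h) ≫ θ) ≫ p.α₁ = toL.map (toOne x₁ u') := by
    rw [Category.assoc, h1]
    change toL.map (res x₁ t h) ≫ toL.map (toOne x₁ u) = _
    rw [← Functor.map_comp, res_toOne]
  have k2 : (toL.map (res x₁ t h) ≫ θ) ≫ p.α₂ = toL.map (res x₁ t h ≫ ψ ≫ toOne x₂ u) := by
    rw [Category.assoc, h2]
    change toL.map (res x₁ t h) ≫ toL.map (ψ ≫ toOne x₂ u) = _
    rw [← Functor.map_comp]
  have k3 : (toL.map (res x₁ t h) ≫ θ).top ≫ p.q = str (O x₁ u') (O_base x₁ u') ≫ t.left := by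
    change ((res x₁ t h).hom.top ≫ θ.top) ≫ p.q = _
    rw [Category.assoc, h3]
    change (res x₁ t h).hom.top ≫ str (O x₁ u) (O_base x₁ u) ≫ 𝟙 _ = _
    rw [Category.comp_id]
    exact hsq.w
  constructor
  · intro e
    refine ⟨toL.map (res x₁ t h) ≫ θ, k1, ?_, k3⟩
    rw [k2]
    change _ = toL.map (ψ' ≫ toOne x₂ u')
    rw [← Category.assoc, e, Category.assoc, res_toOne]
  · intro e
    have k4 := e.unique_beta _ k1 k3
    rw [k2] at k4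
    change _ = toL.map (ψ' ≫ toOne x₂ u') at k4
    rw [← res_toOne x₂ t h] at k4
    have l1 := isHomLift_res x₁ t h
    have l2 := isHomLift_res x₂ t h
    have l3 := isHomLift_toOne x₂ u
    have m1 : (VecSt.Fam S 0).p.IsHomLift t (res x₁ t h ≫ ψ) := by
      have : (VecSt.Fam S 0).p.IsHomLift (t ≫ 𝟙 T) (res x₁ t h ≫ ψ) := inferInstance
      rwa [Category.comp_id] at this
    have m2 : (VecSt.Fam S 0).p.IsHomLift t (ψ' ≫ res x₂ t h) := by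
      have : (VecSt.Fam S 0).p.IsHomLift (𝟙 T' ≫ t) (ψ' ≫ res x₂ t h) := inferInstance
      rwa [Category.id_comp] at this
    refine cancel t _ _ m1 m2 (toOne x₂ u) ?_
    have m3 : (VecSt.Fam S 0).p.IsHomLift (t ≫ u) ((res x₁ t h ≫ ψ) ≫ toOne x₂ u) := inferInstance
    have m4 : (VecSt.Fam S 0).p.IsHomLift (t ≫ u) ((ψ' ≫ res x₂ t h) ≫ toOne x₂ u) := inferInstance
    refine eq_of_toL _ _ _ m3 m4 ?_
    rw [Category.assoc, Category.assoc]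
    exact k4

/-- The Isom presheaf of two objects with a universal isomorphism. -/
theorem schP_toBase {Q : MorphismProperty Scheme.{u}} (h𝒵 : FibCat.IsFibGrpd (AlgSt.fullSub (VecSt.Fam S 0) Q₀).p)
    (φ : BasedFunctor.comp x₁ (FibCat.toSelf (AlgSt.fullSub (VecSt.Fam S 0) Q₀)) ≅
      BasedFunctor.comp x₂ (FibCat.toSelf (AlgSt.fullSub (VecSt.Fam S 0) Q₀)))
    {W : Scheme.{u}} (w : W ⟶ B.left)
    (p : IsoPt (str (O x₁ (𝟙 B)) (O_base x₁ (𝟙 B))) (str (O x₂ (𝟙 B)) (O_base x₂ (𝟙 B))) (O x₁ (𝟙 B)).E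
      (O x₂ (𝟙 B)).E w) (hp : p.IsUniv) (hw : Q w) :
    SchP Q (K739.Isom.toBase (FibCat.toSelf (AlgSt.fullSub (VecSt.Fam S 0) Q₀)) x₁ x₂ φ h𝒵 isFibGrpd_selfOver) := by
  let W' : Over S := Over.mk (w ≫ B.hom)
  let w' : W' ⟶ B := Over.homMk w rfl
  have hcomp : ∀ {T : Over S} (u : T ⟶ B) (ψ : x₁.obj (K739.Isom.pt u) ⟶ x₂.obj (K739.Isom.pt u)),
      (AlgSt.fullSub (VecSt.Fam S 0) Q₀).p.IsHomLift (𝟙 T) ψ →
      (FibCat.toSelf (AlgSt.fullSub (VecSt.Fam S 0) Q₀)).map ψ = φ.hom.toNatTrans.app (K739.Isom.pt u) := by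
    intro T u ψ hψ
    have h1 : Vert (FibCat.selfOver (Over S)).p
        ((FibCat.toSelf (AlgSt.fullSub (VecSt.Fam S 0) Q₀)).map ψ) := (vert_of_isHomLift hψ).map _
    have h2 : Vert (FibCat.selfOver (Over S)).p (φ.hom.toNatTrans.app (K739.Isom.pt u)) := vert_app φ.hom _
    exact h1.map_eq.trans h2.map_eq.symm
  obtain ⟨ψ, hψ, hrel⟩ := exists_ptOf x₁ x₂ w' p
  have hψ' : (AlgSt.fullSub (VecSt.Fam S 0) Q₀).p.IsHomLift (𝟙 W')
      (ObjectProperty.homMk ψ : x₁.obj (K739.Isom.pt w') ⟶ x₂.obj (K739.Isom.pt w')) :=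
    (K899.OpenCrit.isHomLift_iff _ _).2 hψ
  let σ : K739.Isom.Sec (FibCat.toSelf (AlgSt.fullSub (VecSt.Fam S 0) Q₀)) x₁ x₂ φ W' :=
    ⟨w', ObjectProperty.homMk ψ, hψ', hcomp w' _ hψ'⟩
  refine schP_of_univ _ w' σ rfl (fun T s => ?_) hw
  have hs : (VecSt.Fam S 0).p.IsHomLift (𝟙 T) s.ψ.hom := (K899.OpenCrit.isHomLift_iff _ _).1 s.lift
  have hiff : ∀ t : T ⟶ W', (K739.Isom.psh (FibCat.toSelf (AlgSt.fullSub (VecSt.Fam S 0) Q₀)) x₁ x₂ φ h𝒵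
      isFibGrpd_selfOver).map t.op σ = s ↔ t.left ≫ w = s.u.left ∧ p.Rel (ptOf x₁ x₂ s.u s.ψ.hom hs) t.left := by
    intro t
    rw [K739.Isom.map_eq_iff h𝒵 isFibGrpd_selfOver t σ s]
    constructor
    · rintro ⟨h1, h2⟩
      refine ⟨congrArg (fun m => m.left) h1, ?_⟩
      refine (res_iff x₁ x₂ t h1 p ψ hψ hrel s.ψ.hom hs).1 ?_
      exact congrArg (fun m => m.hom) h2
    · rintro ⟨h1, h2⟩
      have h3 : t ≫ w' = s.u := by
        apply Over.OverMorphism.ext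
        exact h1
      refine ⟨h3, ?_⟩
      apply ObjectProperty.hom_ext
      exact (res_iff x₁ x₂ t h3 p ψ hψ hrel s.ψ.hom hs).2 h2
  obtain ⟨t, ⟨ht1, ht2⟩, ht3⟩ := hp s.u.left (ptOf x₁ x₂ s.u s.ψ.hom hs)
  refine ⟨Over.homMk t ?_, (hiff _).2 ⟨ht1, ht2⟩, ?_⟩
  · change t ≫ w ≫ B.hom = T.hom
    rw [← Category.assoc, ht1]
    exact Over.w s.u
  · intro t' ht'
    apply Over.OverMorphism.ext
    exact ht3 _ ((hiff t').1 ht')

end Main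

theorem exists_of_base (A : VecSt.Obj S 0) {B : Over S} (h : A.base = B) (Q₀ : VecSt.Obj S 0 → Prop) (hQ : Q₀ A) :
    ∃ (s : Fin 0 → (B.left ⟶ A.C)) (hs : ∀ i, s i ≫ str A h = 𝟙 B.left),
      Q₀ { base := B, C := A.C, f := str A h, sect := s, sect_f := hs, E := A.E } := by
  subst h
  refine ⟨A.sect, fun i => i.elim0, ?_⟩
  have h1 : ({ base := A.base, C := A.C, f := str A rfl, sect := A.sect, sect_f := fun i => i.elim0, E := A.E } :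
      VecSt.Obj S 0) = A := by
    obtain ⟨⟨b, C, f, s, hs⟩, E⟩ := A
    have : str ({ base := b, C := C, f := f, sect := s, sect_f := hs, E := E } : VecSt.Obj S 0) rfl = f :=
      Category.comp_id _
    congr 1
  rw [h1]
  exact hQ

/-- The diagonal of a full subcategory of the families of schemes with a module, from universal isomorphisms. -/
theorem repByAlgSpWith_diag {P : MorphismProperty (AlgSp.Sp S)} {Q : MorphismProperty Scheme.{u}}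
    [Q.IsStableUnderBaseChange] (hPQ : ∀ ⦃F G : AlgSp.Sp S⦄ (f : F ⟶ G), P f ↔ AlgSp.RepWith Q f)
    (Q₀ : VecSt.Obj S 0 → Prop) (h₀ : ∀ (A B : VecSt.Obj S 0) (_ : A ⟶ B), Q₀ B → Q₀ A)
    (H : ∀ (B : Over S) (X₁ X₂ : Scheme.{u}) (f₁ : X₁ ⟶ B.left) (f₂ : X₂ ⟶ B.left) (E₁ : X₁.Modules) (E₂ : X₂.Modules),
      (∃ s hs, Q₀ { base := B, C := X₁, f := f₁, sect := s, sect_f := hs, E := E₁ }) →
      (∃ s hs, Q₀ { base := B, C := X₂, f := f₂, sect := s, sect_f := hs, E := E₂ }) →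
      ∃ (W : Scheme.{u}) (w : W ⟶ B.left) (p : IsoPt f₁ f₂ E₁ E₂ w), p.IsUniv ∧ Q w) :
    AlgSt.RepByAlgSpWith P (FibCat.diag (FibCat.toSelf (AlgSt.fullSub (VecSt.Fam S 0) Q₀))) := by
  have h𝒵 : FibCat.IsFibGrpd (AlgSt.fullSub (VecSt.Fam S 0) Q₀).p :=
    K899.OpenCrit.isFibGrpd_fullSub isFibGrpd_fam fun {x y} m hx => h₀ y x m hx
  rw [K748.El.repByAlgSpWith_diag_iff_schP hPQ h𝒵]
  intro B x₁ x₂
  obtain ⟨W, w, p, hp, hw⟩ := H B _ _ (str (O x₁ (𝟙 B)) (O_base x₁ (𝟙 B))) (str (O x₂ (𝟙 B)) (O_base x₂ (𝟙 B)))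
    (O x₁ (𝟙 B)).E (O x₂ (𝟙 B)).E (exists_of_base _ _ Q₀ (x₁.obj (K739.Isom.pt (𝟙 B))).property)
    (exists_of_base _ _ Q₀ (x₂.obj (K739.Isom.pt (𝟙 B))).property)
  exact schP_toBase x₁ x₂ h𝒵 _ w p hp hw

end K996.Trans
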